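import Cfsg.Agent.H520.CcpCfg
import Cfsg.Agent.StdAlt.Six.Act
import Cfsg.Agent.S2119

/-!
# S4114: the alternating groups (helper763)

`row_alt` : the alternating groups of degree at least five have no minimal configuration.
-/

set_option autoImplicit false

namespace Cfsg.Agent.H763.Ccp

open Subgroup Equiv Equiv.Perm Cfsg Cfsg.Agent.H520

universe u

/-- the order of the alternating group is even -/
theorem two_dvd_alt {n : ℕ} (hn : 5 ≤ n) : 2 ∣ Nat.card (alternatingGroup (Fin n)) := by
  have : Nontrivial (Fin n) := Fin.nontrivial_iff_two_le.2 (by omega)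
  have h1 : 2 * Nat.card (alternatingGroup (Fin n)) = n.factorial := by
    rw [two_mul_nat_card_alternatingGroup, Nat.card_perm, Nat.card_eq_fintype_card, Fintype.card_fin]
  have h2 : (Nat.factorial 5) ∣ n.factorial := Nat.factorial_dvd_factorial hn
  have h3 : Nat.factorial 5 = 2 * (2 * 30) := by decide
  rw [h3, ← h1] at h2
  exact (dvd_mul_right 2 30).trans (Nat.dvd_of_mul_dvd_mul_left (by norm_num) h2)

/-- conjugation by permutations on the alternating group is injective -/
theorem conjNormal_inj {n : ℕ} (hn : 5 ≤ n) :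
    Function.Injective (MulAut.conjNormal : Perm (Fin n) →* MulAut ↥(alternatingGroup (Fin n))) := by
  by_cases h6 : n = 6
  · subst h6
    intro a b h
    exact StdAlt.Six.pc_inj h
  · exact (S2119.result n (by omega) h6).1

/-- an automorphism of odd prime order is a conjugation by an even permutation of the same order -/
theorem exists_perm {n : ℕ} (hn : 5 ≤ n) {p : ℕ} (hp : p.Prime) (hp2 : p ≠ 2)
    {y : MulAut ↥(alternatingGroup (Fin n))} (hy : orderOf y = p) :
    ∃ s : ↥(alternatingGroup (Fin n)), y = MulAut.conj s ∧ orderOf s = p := by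
  have hodd : Odd p := hp.odd_of_ne_two hp2
  -- a permutation
  obtain ⟨σ, hσ⟩ : ∃ σ : Perm (Fin n), (MulAut.conjNormal : Perm (Fin n) →* MulAut ↥(alternatingGroup (Fin n))) σ = y := by
    by_cases h6 : n = 6
    · subst h6
      obtain ⟨τ, hτ⟩ := StdAlt.Six.ns_iff.1 (StdAlt.Six.ns_sq y)
      obtain ⟨k, hk⟩ := hodd
      refine ⟨τ ^ (k + 1), ?_⟩
      rw [map_pow]
      have h1 : (MulAut.conjNormal : Perm (Fin 6) →* MulAut ↥(alternatingGroup (Fin 6))) τ = y * y := hτ.symm
      rw [h1, ← pow_two, ← pow_mul]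
      have h2 : 2 * (k + 1) = p + 1 := by omega
      rw [h2, pow_succ, ← hy, pow_orderOf_eq_one, one_mul]
    · exact (S2119.result n (by omega) h6).2 y
  have ho : orderOf σ = p := by
    rw [← hy, ← hσ]
    exact (orderOf_injective _ (conjNormal_inj hn) σ).symm
  have hs : Equiv.Perm.sign σ = 1 := by
    rcases Int.units_eq_one_or (Equiv.Perm.sign σ) with h | h
    · exact h
    · exfalso
      have h1 : Equiv.Perm.sign (σ ^ p) = 1 := by rw [← ho, pow_orderOf_eq_one, map_one]
      rw [map_pow, h, hodd.neg_one_pow] at h1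
      exact absurd h1 (by decide)
  refine ⟨⟨σ, Equiv.Perm.mem_alternatingGroup.2 hs⟩, ?_, ?_⟩
  · rw [← hσ]
    ext x : 1
    apply Subtype.ext
    rw [MulAut.conjNormal_apply]
    rfl
  · rw [← ho]
    exact (orderOf_injective (alternatingGroup (Fin n)).subtype (subtype_injective _) _).symm

/-- an even permutation commuting with an odd one is conjugate to its inverse in the alternating group -/
theorem real_of_odd {n : ℕ} (s : ↥(alternatingGroup (Fin n))) {τ : Perm (Fin n)}
    (hτ : τ ∈ centralizer ({(s : Perm (Fin n))} : Set (Perm (Fin n)))) (hodd : Equiv.Perm.sign τ ≠ 1) :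
    ∃ g : ↥(alternatingGroup (Fin n)), g * s * g⁻¹ = s⁻¹ := by
  have h1 : IsConj (s : Perm (Fin n)) (s : Perm (Fin n))⁻¹ := by
    rw [Equiv.Perm.isConj_iff_cycleType_eq, Equiv.Perm.cycleType_inv]
  obtain ⟨g, hg⟩ := isConj_iff.1 h1
  have hs : Equiv.Perm.sign τ = -1 := (Int.units_eq_one_or _).resolve_left hodd
  rw [mem_centralizer_singleton_iff] at hτ
  rcases Int.units_eq_one_or (Equiv.Perm.sign g) with h | h
  · exact ⟨⟨g, Equiv.Perm.mem_alternatingGroup.2 h⟩, Subtype.ext hg⟩
  · refine ⟨⟨g * τ, Equiv.Perm.mem_alternatingGroup.2 (by rw [map_mul, h, hs]; decide)⟩, Subtype.ext ?_⟩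
    show g * τ * (s : Perm (Fin n)) * (g * τ)⁻¹ = (s : Perm (Fin n))⁻¹
    calc g * τ * (s : Perm (Fin n)) * (g * τ)⁻¹ = g * (τ * s) * τ⁻¹ * g⁻¹ := by group
      _ = g * (s * τ) * τ⁻¹ * g⁻¹ := by rw [hτ]
      _ = g * s * g⁻¹ := by group
      _ = _ := hg

/-- an element of odd prime order is real or self-centralizing in the symmetric group and a long cycle -/
theorem real_or {n : ℕ} {p : ℕ} (hp : p.Prime) (s : ↥(alternatingGroup (Fin n)))
    (hs : orderOf s = p) : (∃ g : ↥(alternatingGroup (Fin n)), g * s * g⁻¹ = s⁻¹) ∨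
      ((s : Perm (Fin n)).cycleType = {p} ∧ n ≤ p + 1 ∧
        centralizer ({(s : Perm (Fin n))} : Set (Perm (Fin n))) = zpowers (s : Perm (Fin n))) := by
  by_cases hle : centralizer ({(s : Perm (Fin n))} : Set (Perm (Fin n))) ≤ alternatingGroup (Fin n)
  · right
    have ho : orderOf (s : Perm (Fin n)) = p := by
      rw [← hs]
      exact orderOf_injective (alternatingGroup (Fin n)).subtype (subtype_injective _) s
    obtain ⟨-, h2, h3⟩ := Equiv.Perm.centralizer_le_alternating_iff.1 hle
    rw [Fintype.card_fin] at h2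
    have hfp : Fact p.Prime := ⟨hp⟩
    obtain ⟨k, hk⟩ := Equiv.Perm.cycleType_prime_order (by rw [ho]; exact hp)
    rw [ho] at hk
    have hk0 : k = 0 := by
      have h4 := h3 p
      rw [hk, Multiset.count_replicate_self] at h4
      omega
    subst hk0
    have hct : (s : Perm (Fin n)).cycleType = {p} := by rw [hk]; rfl
    rw [hct, Multiset.sum_singleton] at h2
    refine ⟨hct, h2, ?_⟩
    have hcard : Nat.card (centralizer ({(s : Perm (Fin n))} : Set (Perm (Fin n)))) = p := by
      rw [Equiv.Perm.nat_card_centralizer, hct]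
      have h5 : (n - p).factorial = 1 := by
        rcases Nat.le_one_iff_eq_zero_or_eq_one.1 (show n - p ≤ 1 by omega) with h | h <;> rw [h] <;> rfl
      simp [h5]
    symm
    apply eq_of_le_of_card_ge
    · rw [zpowers_le, mem_centralizer_singleton_iff]
    · rw [hcard, Nat.card_zpowers, ho]
  · left
    rw [SetLike.le_def] at hle
    push Not at hle
    obtain ⟨τ, hτ, hτ'⟩ := hle
    exact real_of_odd s hτ fun h => hτ' (Equiv.Perm.mem_alternatingGroup.2 h)

/-- five-cycles of `A_6` are real -/
theorem real_five (s : ↥(alternatingGroup (Fin 6))) (hs : (s : Perm (Fin 6)).cycleType = {5}) :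
    ∃ g : ↥(alternatingGroup (Fin 6)), g * s * g⁻¹ = s⁻¹ := by
  let c : Perm (Fin 6) := swap 0 1 * swap 1 2 * swap 2 3 * swap 3 4
  let t : Perm (Fin 6) := swap 1 4 * swap 2 3
  have hc : c.cycleType = {5} := by decide
  have ht : Equiv.Perm.sign t = 1 := by decide
  have htc : t * c * t⁻¹ = c⁻¹ := by decide
  obtain ⟨g, hg⟩ := isConj_iff.1 (Equiv.Perm.isConj_iff_cycleType_eq.2 (hs.trans hc.symm))
  refine ⟨⟨g⁻¹ * t * g, Equiv.Perm.mem_alternatingGroup.2 ?_⟩, Subtype.ext ?_⟩
  · rw [map_mul, map_mul, ht, map_inv, mul_one, inv_mul_cancel]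
  · show (g⁻¹ * t * g) * (s : Perm (Fin 6)) * (g⁻¹ * t * g)⁻¹ = (s : Perm (Fin 6))⁻¹
    have h1 : (s : Perm (Fin 6)) = g⁻¹ * c * g := by rw [← hg]; group
    rw [h1]
    calc (g⁻¹ * t * g) * (g⁻¹ * c * g) * (g⁻¹ * t * g)⁻¹ = g⁻¹ * (t * c * t⁻¹) * g := by group
      _ = (g⁻¹ * c * g)⁻¹ := by rw [htc]; group

theorem row_altn (n : ℕ) (hn : 5 ≤ n) : Row ↥(alternatingGroup (Fin n)) := by
  intro α h
  obtain ⟨p, hp, hp2, hpd⟩ := h.exists_prime_ne Nat.prime_two (two_dvd_alt hn)
  obtain ⟨y, hy, hyo⟩ := exists_prime_order hp hpd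
  obtain ⟨s, hys, hso⟩ := exists_perm hn hp hp2 hyo
  have hsα : MulAut.conj s ∈ zpowers α := by rw [← hys]; exact hy
  have hnr : ¬ ∃ g : ↥(alternatingGroup (Fin n)), g * s * g⁻¹ = s⁻¹ := by
    rintro ⟨g, hg⟩
    have h1 := h.sq_eq_one_of_real hsα hg
    have h2 : p ∣ 2 := by rw [← hso]; exact orderOf_dvd_of_pow_eq_one h1
    exact hp2 ((Nat.prime_dvd_prime_iff_eq hp Nat.prime_two).1 h2)
  rcases real_or hp s hso with h1 | ⟨hct, hnp, hcen⟩
  · exact hnr h1
  · have hpn : p ≤ n := by
      have h2 := Equiv.Perm.sum_cycleType (s : Perm (Fin n))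
      rw [hct, Multiset.sum_singleton] at h2
      rw [h2]
      exact (Finset.card_le_univ _).trans (by rw [Fintype.card_fin])
    by_cases h6 : n = 6
    · subst h6
      apply hnr
      apply real_five s
      have h5 : p = 5 := by
        have h7 : p ≠ 6 := by
          rintro rfl
          exact absurd hp (by norm_num)
        omega
      rw [hct, h5]
    · -- `α` is conjugation by a permutation
      obtain ⟨a, ha⟩ := (S2119.result n (by omega) h6).2 α
      have hinj := conjNormal_inj hn
      have hsc : (MulAut.conjNormal : Perm (Fin n) →* MulAut ↥(alternatingGroup (Fin n))) (s : Perm (Fin n)) =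
          MulAut.conj s := by
        ext x : 1
        apply Subtype.ext
        rw [MulAut.conjNormal_apply]
        rfl
      have hcomm : a ∈ centralizer ({(s : Perm (Fin n))} : Set (Perm (Fin n))) := by
        rw [mem_centralizer_singleton_iff]
        apply hinj
        rw [map_mul, map_mul, ha, hsc]
        obtain ⟨i, hi⟩ := hsα
        rw [← hi]
        exact ((Commute.refl α).zpow_right i).eq
      rw [hcen] at hcomm
      obtain ⟨i, hi⟩ := hcomm
      have hord : orderOf α ∣ p := by
        apply orderOf_dvd_of_pow_eq_one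
        rw [← ha, ← map_pow, ← hi]
        have h3 : (s : Perm (Fin n)) ^ p = 1 := by
          have h4 : s ^ p = 1 := by rw [← hso]; exact pow_orderOf_eq_one s
          exact congrArg Subtype.val h4
        show (MulAut.conjNormal : Perm (Fin n) →* MulAut ↥(alternatingGroup (Fin n))) (((s : Perm (Fin n)) ^ i) ^ p) = 1
        rw [← zpow_natCast, ← zpow_mul, mul_comm, zpow_mul, zpow_natCast, h3, one_zpow, map_one]
      have hα : orderOf α = p ^ 1 := by rw [pow_one]; exact Nat.dvd_antisymm hord hpd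
      have : Fact p.Prime := ⟨hp⟩
      refine h.not_primepow (p := p) ?_ 1 hα
      rw [← hso]
      exact orderOf_dvd_natCard s

/-- **The row of the alternating groups.** -/
theorem row_alt {G : Type u} [Group G] [Finite G] (h : Cfsg.IsAlternating G) : Row G := by
  obtain ⟨n, hn, ⟨e⟩⟩ := h
  exact (row_altn n hn).congr e

end Cfsg.Agent.H763.Ccp
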