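import Cfsg.Agent.H763.Ccp.PsuReal
import Cfsg.Agent.H459.Rad
import Cfsg.Agent.H242.StrP.FCUni
import Cfsg.Agent.H169.UAut
import Cfsg.Agent.H202.Psu
import Cfsg.Agent.S2705
import Cfsg.Agent.S0283

/-!
# S4114: `PSU₃(q)`, `q` odd: outer automorphisms of order `r` (the characteristic) (helper763)
-/

set_option autoImplicit false

namespace Cfsg.Agent.H763.Ccp

open Subgroup Cfsg Cfsg.Agent.H520

section Gen

variable {K : Type*} [Group K]

/-- An almost simple group has no solvable normal subgroup. -/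
theorem no_solv [hs : IsSimpleGroup K] (hna : ¬ ∀ a b : K, a * b = b * a) (X : Subgroup (MulAut K))
    (hX : (MulAut.conj : K →* MulAut K).range ≤ X) (N : Subgroup X) (hN : N.Normal) (hsol : Group.IsSolvable N) :
    N = ⊥ := by
  have hZ : center K = ⊥ := by
    rcases Subgroup.Normal.eq_bot_or_eq_top (inferInstance : (center K).Normal) with h1 | h1
    · exact h1
    · exfalso
      apply hna
      intro a b
      have h2 : b ∈ center K := by rw [h1]; trivial
      exact mem_center_iff.1 h2 a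
  have hsK : ¬ Group.IsSolvable K := by
    intro h
    exact hna (IsSimpleGroup.comm_iff_isSolvable.2 h)
  -- the inner part
  let c : K →* X := (MulAut.conj : K →* MulAut K).codRestrict X (fun g => hX ⟨g, rfl⟩)
  have hcn : (N.comap c).Normal := hN.comap c
  have hc : N.comap c = ⊥ := by
    rcases Subgroup.Normal.eq_bot_or_eq_top hcn with h1 | h1
    · exact h1
    · exfalso
      apply hsK
      have hinj : Function.Injective c := by
        rw [injective_iff_map_eq_one]
        intro g hg
        have h2 : (MulAut.conj g : MulAut K) = 1 := congrArg Subtype.val hg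
        rw [← mem_bot, ← hZ, mem_center_iff]
        intro k
        have h3 := DFunLike.congr_fun h2 k
        rw [MulAut.conj_apply, MulAut.one_apply] at h3
        calc k * g = (g * k * g⁻¹) * g := by rw [h3]
          _ = g * k := by group
      have hm : ∀ g : K, c g ∈ N := fun g => by
        have : g ∈ N.comap c := by rw [h1]; trivial
        exact this
      exact Group.isSolvable_of_isSolvable_injective (f := c.codRestrict N hm) (fun a b hab => hinj (by
        have := congrArg Subtype.val hab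
        exact this))
  rw [eq_bot_iff]
  intro n hn
  rw [mem_bot]
  apply Subtype.ext
  ext k
  show (n : MulAut K) k = k
  -- `n c(k) n⁻¹ c(k)⁻¹ ∈ N ∩ Inn`
  have h1 : n * c k * n⁻¹ = c ((n : MulAut K) k) := by
    apply Subtype.ext
    ext y
    show (n : MulAut K) (k * ((n : MulAut K)⁻¹ y) * k⁻¹) = (n : MulAut K) k * y * ((n : MulAut K) k)⁻¹
    rw [map_mul, map_mul, map_inv, MulAut.apply_inv_self]
  have h2 : c ((n : MulAut K) k * k⁻¹) ∈ N := by
    rw [map_mul, ← h1, map_inv]
    have h3 : n * c k * n⁻¹ * (c k)⁻¹ = n * (c k * n⁻¹ * (c k)⁻¹) := by group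
    rw [h3]
    exact N.mul_mem hn (hN.conj_mem _ (N.inv_mem hn) _)
  have h3 : (n : MulAut K) k * k⁻¹ ∈ N.comap c := h2
  rw [hc, mem_bot, mul_inv_eq_one] at h3
  exact h3

/-- the fixed points of `x` have no solvable normal subgroup if a subgroup of `C(x)` containing them has none -/
theorem fixA_no_solv [Finite K] (hZ : center K = ⊥) {x : MulAut K} {X : Subgroup (MulAut K)}
    (hX : (MulAut.conj : K →* MulAut K).range ≤ X)
    (h : ∀ N : Subgroup ↥(X ⊓ centralizer ({x} : Set (MulAut K))), N.Normal → Group.IsSolvable N → N = ⊥) :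
    ∀ N : Subgroup ↥(fixA x), N.Normal → Group.IsSolvable N → N = ⊥ := by
  intro N hN hsol
  have hR : H459.Rad.radIn (fixA x) = ⊥ := by
    let R := H459.Rad.radIn (fixA x)
    have hRX : ∀ g ∈ R, (MulAut.conj g : MulAut K) ∈ X ⊓ centralizer ({x} : Set (MulAut K)) := by
      intro g hg
      refine mem_inf.2 ⟨hX ⟨g, rfl⟩, ?_⟩
      have hgx : x g = g := H459.Rad.radIn_le _ hg
      rw [mem_centralizer_singleton_iff]
      ext y
      show g * x y * g⁻¹ = x (g * y * g⁻¹)
      rw [map_mul, map_mul, map_inv, hgx]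
    have hRinv : ∀ δ : MulAut K, δ * x = x * δ → ∀ g ∈ R, δ g ∈ R := by
      intro δ hδ g hg
      have h1 : (fixA x).map δ.toMonoidHom = fixA x := by
        apply le_antisymm
        · rintro _ ⟨y, hy, rfl⟩
          have hy' : x y = y := hy
          show x (δ y) = δ y
          have h2 := DFunLike.congr_fun hδ y
          rw [MulAut.mul_apply, MulAut.mul_apply, hy'] at h2
          exact h2.symm
        · intro y hy
          have hy' : x y = y := hy
          refine ⟨δ⁻¹ y, ?_, ?_⟩
          · show x (δ⁻¹ y) = δ⁻¹ y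
            apply δ.injective
            have h2 := DFunLike.congr_fun hδ (δ⁻¹ y)
            rw [MulAut.mul_apply, MulAut.mul_apply, MulAut.apply_inv_self] at h2
            rw [h2, hy', MulAut.apply_inv_self]
          · exact MulAut.apply_inv_self _ _ _
      have h2 := H459.Rad.radIn_map δ (M := fixA x)
      rw [h1] at h2
      show δ g ∈ H459.Rad.radIn (fixA x)
      rw [← h2]
      exact ⟨g, hg, rfl⟩
    let M : Subgroup ↥(X ⊓ centralizer ({x} : Set (MulAut K))) :=
      (R.map (MulAut.conj : K →* MulAut K)).subgroupOf _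
    have hMn : M.Normal := by
      constructor
      intro m hm δ
      obtain ⟨g, hg, hgm⟩ := hm
      refine ⟨(δ : MulAut K) g, hRinv _ (mem_centralizer_singleton_iff.1 δ.2.2) g hg, ?_⟩
      show MulAut.conj ((δ : MulAut K) g) = (δ : MulAut K) * m * (δ : MulAut K)⁻¹
      have hgm' : MulAut.conj g = (m : MulAut K) := hgm
      rw [← hgm']
      ext y
      show (δ : MulAut K) g * y * ((δ : MulAut K) g)⁻¹ = (δ : MulAut K) (g * ((δ : MulAut K)⁻¹ y) * g⁻¹)
      rw [map_mul, map_mul, map_inv, MulAut.apply_inv_self]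
    have hRs : Group.IsSolvable R := H459.Rad.radIn_solvable _
    have hMs : Group.IsSolvable M := by
      have h1 : Group.IsSolvable (R.map (MulAut.conj : K →* MulAut K)) :=
        Group.isSolvable_of_surjective (f := (MulAut.conj : K →* MulAut K).subgroupMap R)
          ((MulAut.conj : K →* MulAut K).subgroupMap_surjective R)
      have hle : R.map (MulAut.conj : K →* MulAut K) ≤ X ⊓ centralizer ({x} : Set (MulAut K)) := by
        rintro _ ⟨g, hg, rfl⟩
        exact hRX g hg
      exact Group.isSolvable_of_surjective (f := (subgroupOfEquivOfLe hle).symm.toMonoidHom)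
        (subgroupOfEquivOfLe hle).symm.surjective
    have hM := h M hMn hMs
    rw [eq_bot_iff]
    intro g hg
    have h1 : (⟨MulAut.conj g, hRX g hg⟩ : ↥(X ⊓ centralizer ({x} : Set (MulAut K)))) ∈ M := ⟨g, hg, rfl⟩
    rw [hM, mem_bot] at h1
    have h2 : (MulAut.conj g : MulAut K) = 1 := congrArg Subtype.val h1
    rw [← hZ, mem_center_iff]
    intro k
    have h3 := DFunLike.congr_fun h2 k
    rw [MulAut.conj_apply, MulAut.one_apply] at h3
    calc k * g = (g * k * g⁻¹) * g := by rw [h3]
      _ = g * k := by group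
  have h1 := H459.Rad.le_rad hN hsol
  rw [eq_bot_iff]
  intro n hn
  have h2 : (n : K) ∈ H459.Rad.radIn (fixA x) := H459.Rad.mem_radIn_coe.2 (h1 hn)
  rw [hR, mem_bot] at h2
  rw [mem_bot]
  exact Subtype.ext h2

end Gen

namespace Psu

variable {F : Type} [Field F] [Fintype F] {q : ℕ}

/-- **Outer automorphisms of order `r`.** -/
theorem outer (hF : Fintype.card F = q ^ 2) (hq : q ≠ 2) {r : ℕ} [hr : Fact r.Prime] [CharP F r] (hr2 : r ≠ 2)
    [Finite (PSU 3 F q)] [IsSimpleGroup (PSU 3 F q)] (x : MulAut (PSU 3 F q)) (hx : orderOf x = r)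
    (hout : ∀ u : PSU 3 F q, x ≠ MulAut.conj u) :
    ∀ N : Subgroup ↥(fixA x), N.Normal → Group.IsSolvable N → N = ⊥ := by
  have h32 : ¬ ((3 : ℕ) = 3 ∧ q = 2) := fun h => hq h.2
  have hna : ∀ (K : Type) [Field K] [Fintype K] (s : ℕ) (_ : IsSimpleGroup (PSU 3 K s)),
      ¬ ∀ a b : PSU 3 K s, a * b = b * a := by
    intro K _ _ s hs hab
    exact H242.StrP.FC.not_comm_psu hs ⟨⟨hab⟩⟩
  obtain ⟨hq3, n, hn0, hn, d, h, hd3, hdq1, hd0, hh, hcard, hrh, hlt⟩ := numbers hF hq (r := r)
  have hrq : r ∣ q := hn ▸ dvd_pow_self r hn0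
  obtain ⟨A, ρ, rfl⟩ := ClassicalGeometry.PSUAutMain.exists_toAut hF (le_refl 3) h32 x
  have hpow : ClassicalGeometry.PSUAutCount.toAut A ρ ^ r = 1 := by rw [← hx]; exact pow_orderOf_eq_one _
  by_cases hρ : ρ = 1
  · -- inner-diagonal
    exfalso
    subst hρ
    have hmem : ClassicalGeometry.PSUAutCount.toAut A 1 ∈ inndiagPSU 3 F q := by
      rw [H202.Psu.inndiag_eq]
      exact ⟨A, rfl⟩
    have hrel := H169.UAut.relIndex_inn hF (le_refl 3)
    have hnI : (Inn (PSU 3 F q)).Normal := H169.UAut.inn_normal'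
    have h1 : ClassicalGeometry.PSUAutCount.toAut A 1 ^ Nat.gcd 3 (q + 1) ∈ Inn (PSU 3 F q) := by
      rw [← hrel]
      have h2 : (⟨_, hmem⟩ : ↥(inndiagPSU 3 F q)) ^ ((Inn (PSU 3 F q)).subgroupOf (inndiagPSU 3 F q)).index ∈
        (Inn (PSU 3 F q)).subgroupOf (inndiagPSU 3 F q) := Subgroup.pow_index_mem _ _
      exact h2
    have hcop : Nat.Coprime (Nat.gcd 3 (q + 1)) r := by
      rw [Nat.coprime_comm, hr.out.coprime_iff_not_dvd]
      intro h2
      have h3 : r ∣ q + 1 := h2.trans (Nat.gcd_dvd_right _ _)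
      have h4 : r ∣ 1 := (Nat.dvd_add_right hrq).1 h3
      exact hr.out.one_lt.ne' (Nat.dvd_one.1 h4)
    have h2 : ClassicalGeometry.PSUAutCount.toAut A 1 ∈ Inn (PSU 3 F q) := by
      obtain ⟨m, -, hm⟩ := Nat.exists_mul_mod_eq_one_of_coprime hcop hr.out.one_lt
      have h3 := (Inn (PSU 3 F q)).pow_mem h1 m
      rw [← pow_mul, ← pow_mod_orderOf, hx, hm, pow_one] at h3
      exact h3
    obtain ⟨u, hu⟩ := h2
    exact hout u hu.symm
  · -- field type
    have hr2' : Odd r := hr.out.odd_of_ne_two hr2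
    obtain ⟨hρr, -⟩ := CpAutU.Desc.exists_scalar hF (le_refl 3) hpow
    have hρo : orderOf ρ = r := orderOf_eq_prime hρr hρ
    obtain ⟨-, m, hm, hconj⟩ := H202.Psu.exists_conj_field hF (le_refl 3) hρ (by rw [hρo]; exact hr2') hr.out hx
    have hcl : IsFieldAutClassPSU (ClassicalGeometry.PSUAutCount.toAut A ρ) := by
      refine ⟨m⁻¹, Schreier.PSU.f₂ ρ, ρ, hρ, by rw [hρo]; exact hr2', (H202.Psu.isFieldAut_iff ρ _).2 rfl, ?_⟩
      rw [hconj]
      group
    have hrn : r ∣ n := by
      have h1 : Nat.card (F ≃+* F) = 2 * n := Lib.FieldAutCard.card_ringAut (p := r) (by omega)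
        (by rw [hF, hn, ← pow_mul, mul_comm])
      have h3 : r ∣ 2 * n := by
        rw [← h1, ← hρo]
        exact orderOf_dvd_natCard ρ
      rcases (hr.out.dvd_mul).1 h3 with h4 | h4
      · exact absurd ((Nat.prime_dvd_prime_iff_eq hr.out Nat.prime_two).1 h4) hr2
      · exact h4
    have hnr : 1 ≤ n / r := Nat.div_pos (Nat.le_of_dvd (by omega) hrn) hr.out.pos
    let _ : Fintype (GaloisField r (2 * (n / r))) := Fintype.ofFinite _
    have hF₀ : Fintype.card (GaloisField r (2 * (n / r))) = r ^ (2 * (n / r)) := by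
      rw [← Nat.card_eq_fintype_card, GaloisField.card r (2 * (n / r)) (by omega)]
    obtain ⟨-, ⟨e⟩, -⟩ := S2705.result (p := r) (f := n) hn (by omega) hF (le_refl 3) h32 _ hcl hr.out hr2' hx
      (GaloisField r (2 * (n / r))) hF₀
    have hF₀' : Fintype.card (GaloisField r (2 * (n / r))) = (r ^ (n / r)) ^ 2 := by
      rw [hF₀, ← pow_mul, mul_comm]
    have hq₀ : r ^ (n / r) ≠ 2 := by
      intro h2
      have h3 : r ∣ 2 := by rw [← h2]; exact dvd_pow_self r (by omega)
      exact hr2 ((Nat.prime_dvd_prime_iff_eq hr.out Nat.prime_two).1 h3)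
    have hs₀ : IsSimpleGroup (PSU 3 (GaloisField r (2 * (n / r))) (r ^ (n / r))) :=
      S0283.result hF₀' 3 (le_refl 3) (fun h => hq₀ h.2)
    obtain ⟨e₂⟩ := H242.StrP.FC.pgu_equiv (F := GaloisField r (2 * (n / r))) (q := r ^ (n / r)) hF₀' (le_refl 3)
    have hZ : center (PSU 3 F q) = ⊥ := by
      rcases Subgroup.Normal.eq_bot_or_eq_top (inferInstance : (center (PSU 3 F q)).Normal) with h1 | h1
      · exact h1
      · exfalso
        apply hna F q inferInstance
        intro a b
        have h2 : b ∈ center (PSU 3 F q) := by rw [h1]; trivial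
        exact mem_center_iff.1 h2 a
    refine fixA_no_solv hZ (X := inndiagPSU 3 F q) (H169.UAut.inn_le_inndiag hF) ?_
    intro N hN hsol
    have h1 : (N.map (e.trans e₂).toMonoidHom) = ⊥ := by
      refine no_solv (hna _ _ hs₀) _ (H169.UAut.inn_le_inndiag hF₀') _ ?_ ?_
      · exact hN.map _ (e.trans e₂).surjective
      · exact Group.isSolvable_of_surjective (f := (e.trans e₂).toMonoidHom.subgroupMap N)
          ((e.trans e₂).toMonoidHom.subgroupMap_surjective N)
    rw [eq_bot_iff]
    intro n hn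
    have h2 : (e.trans e₂) n ∈ N.map (e.trans e₂).toMonoidHom := ⟨n, hn, rfl⟩
    rw [h1, mem_bot] at h2
    rw [mem_bot]
    exact (e.trans e₂).injective (by rw [h2, map_one])

/-- **`PSU₃(q)`, the non-elliptic case.** -/
theorem ne_psu3 (hF : Fintype.card F = q ^ 2) (hq : q ≠ 2) {r : ℕ} [hr : Fact r.Prime] [CharP F r] :
    ∀ α : MulAut (PSU 3 F q), Cfg α → EL r α := by
  intro α hα
  by_cases hr2 : r = 2
  · subst hr2
    exact ne_even hF hq hα
  · have hfin : Finite (PSU 3 F q) := H242.StrP.FC.finite_psu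
    have := hα.sim
    exact el_odd hr2 (tame hF hq) hα (fun u hu => real hF hq hr2 u hu)
      (fun x hx hout => outer hF hq hr2 x hx hout)

end Psu

end Cfsg.Agent.H763.Ccp
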