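import Cfsg.Agent.H763.Ccp.BChart
import Cfsg.Agent.H109.NrB
import Cfsg.Agent.H979.CovLift
import Cfsg.Agent.CpAut.TwoInnerB
import Cfsg.Agent.BpSpor.Row.B
import Cfsg.Agent.MFive.JTwo
import Cfsg.Agent.MFiveHN.Closed
import Cfsg.Agent.LThreeMB.CoOneFin

/-!
# S4114: the row `B` (helper763)

`mv_three`, `mv_five`, `mv_seven` : elements of order 3, 5, 7 of the Monster commuting with a 2A-involution `t` (for 5 : and
with centralizer of order divisible by 4) are conjugate to a different power by an element of `C(t)`.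
-/

set_option autoImplicit false
set_option maxRecDepth 100000

namespace Cfsg.Agent.H763.Ccp.B

open Cfsg Cfsg.Agent.MonsterX Cfsg.Agent.MonsterX.InstData Cfsg.Agent.MonsterX.MainPack Cfsg.Agent.MonsterU
open Cfsg.Agent.MonsterP Cfsg.Agent.MonsterN Cfsg.Agent.PreUniqB
open Cfsg.Agent.LThreeMB (fr XX KChart.Cent KChart.pi KChart.chart CoOne)
open Cfsg.Agent.MonsterX.MainBasic Cfsg.Agent.MonsterX.MainSimple Cfsg.Agent.MonsterX.Model
open Cfsg.Agent.CpAutBFive Cfsg.Agent.H497.Stein Cfsg.Agent.H763.Ccp.MV Cfsg.Agent.H763.Ccp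
open Cfsg.Spor (Co1)
open Subgroup (centralizer mem_centralizer_singleton_iff center)

universe u

theorem mv_three {x v : ↥InstData.M.G} (hx : orderOf x = 3) (hv : IsConj RowB.t v) (hxv : x * v = v * x) : MV x v := by
  have hfin : Finite ↥InstData.M.G := MFive.Row.finite_model
  have hs : IsSimpleGroup ↥InstData.M.G := MFive.Row.simple_model
  have ht := LThreeMB.KPair.trNe KDone.lft MFive.Row.hc (LThreeMBTr.traceNe KDone.lft LThreeMBTr.TensK.tens)
  have hp := LThreeMB.KPair.hasPair KDone.lft MFive.Row.hc LThreeB.Row.second LThreeMB.COct.octPair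
  obtain ⟨g, hg, -⟩ := LThreeM.FiRow.exists_z_in (by rw [← hx, pow_orderOf_eq_one]) hv hxv
  exact BChart.mv_three MFive.Row.hc LThreeMB.CoOneFin.coOne ht hp (KChart.chart KDone.lft MFive.Row.hc) Model.tcl hx hv
    hxv ⟨g, hg⟩

theorem mv_five {x v : ↥InstData.M.G} (hx : orderOf x = 5) (hv : IsConj RowB.t v) (hxv : x * v = v * x)
    (h4 : 4 ∣ Nat.card ↥(centralizer ({x} : Set ↥InstData.M.G))) : MV x v := by
  have hfin : Finite ↥InstData.M.G := MFive.Row.finite_model
  have h := KChart.chart KDone.lft MFive.Row.hc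
  have htr := MFive.KPair.trNe_five KDone.lft Cfsg.Agent.LThreeMBTr.tens MFive.Row.hc
  have hsim : IsSimpleGroup ↥InstData.M.G := MFive.Row.simple_model
  have h8 : MFive.HNEight KDone.K.z (KChart.pi MFive.Row.hc) := MFiveHN.Closed.hnEight h
  have hex := (CpAutBFive.EvenRow.cases hx).resolve_right fun h => h h4
  exact BChart.mv_five h htr (MFive.KPair.hasPair Nat.prime_five (by decide) KDone.lft Cfsg.Agent.LThreeMBTr.tens
    MFive.Row.hc MFive.Row.two MFive.Oct.octPair) CoFive.Ranks.ranks (CoFive.Ranks.wclassOf _) h8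
    (fun s hs h1 => MFive.JTwo.isoJ2 hs h1) Model.tcl hx hv hxv hex

theorem mv_seven {x v : ↥InstData.M.G} (hx : orderOf x = 7) (hv : IsConj RowB.t v) (hxv : x * v = v * x) : MV x v := by
  have hfin : Finite ↥InstData.M.G := MFive.Row.finite_model
  have h := KChart.chart KDone.lft MFive.Row.hc
  have hp : Nat.Prime 7 := by norm_num
  have ht := RowB.orderOf_t hv
  have he : 2 ∣ Nat.card ↥(centralizer ({x} : Set ↥InstData.M.G)) := by
    have h1 : orderOf (⟨v, mem_centralizer_singleton_iff.2 hxv.symm⟩ : ↥(centralizer ({x} : Set ↥InstData.M.G))) = 2 := by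
      rw [← Subgroup.orderOf_coe]
      exact ht
    rw [← h1]
    exact orderOf_dvd_natCard _
  have hm := BChart.movedAt_of_ex h hp (by decide) H859.Ccp.Co1.moved_seven (MSevenT.hex7 x hx he) hx
  obtain ⟨e⟩ := H109.Nr.B.isoHe_of_comm hv hx hxv
  exact mv_of_invC hp (by norm_num) hx ht hxv.symm hm (InvFacts.invC_he.congr e)

theorem exists_cover {L : Type u} [Group L] (h : Spor.IsoB L) : ∃ t : ↥InstData.M.G, IsConj RowB.t t ∧
    Nat.card ↥(center ↥(centralizer ({t} : Set ↥InstData.M.G))) = 2 ∧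
      Nonempty (↥(centralizer ({t} : Set ↥InstData.M.G)) ⧸ center ↥(centralizer ({t} : Set ↥InstData.M.G)) ≃* L) := by
  obtain ⟨⟨h1, -, ⟨e⟩⟩, -⟩ := ModelB.fieldsKS LitFin.all KDone.lnk KDone.lft (NodesGrp.prel LitFin.H)
    (NodesNe.ne LitFin.H) LitFin.conj_ten Cfsg.Agent.S1704.result KDone.lnk.x₀_mem
  obtain ⟨g, hg⟩ := ModelB.exists_conj_t LitFin.all.hG LitFin.all.hR KDone.lnk KDone.lft KDone.lnk.x₀_mem
  obtain ⟨f⟩ := h
  exact ⟨_, isConj_iff.2 ⟨g, hg⟩, h1, ⟨e.trans f.symm⟩⟩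

/-- the image of a moved element in `C(t)/Z` -/
theorem movedAt_quot {t : ↥InstData.M.G} {L : Type u} [Group L]
    (e : ↥(centralizer ({t} : Set ↥InstData.M.G)) ⧸ center ↥(centralizer ({t} : Set ↥InstData.M.G)) ≃* L) {p : ℕ}
    (h2 : Nat.card ↥(center ↥(centralizer ({t} : Set ↥InstData.M.G))) = 2) (hp : p.Prime) (hp2 : p ≠ 2)
    {a : ↥(centralizer ({t} : Set ↥InstData.M.G))} (ha : orderOf a = p) (hm : MV (a : ↥InstData.M.G) t) :
    MovedAt (e (QuotientGroup.mk a)) := by
  have hfin : Finite ↥InstData.M.G := MFive.Row.finite_model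
  obtain ⟨g, j, h1, h3, h4⟩ := hm
  let g' : ↥(centralizer ({t} : Set ↥InstData.M.G)) := ⟨g, mem_centralizer_singleton_iff.2 h4⟩
  have h5 : g' * a * g'⁻¹ = a ^ j := Subtype.ext h1
  let q : ↥(centralizer ({t} : Set ↥InstData.M.G)) →* L :=
    e.toMonoidHom.comp (QuotientGroup.mk' (center ↥(centralizer ({t} : Set ↥InstData.M.G))))
  refine ⟨q g', j, ?_, ?_⟩
  · show q g' * q a * (q g')⁻¹ = (q a) ^ j
    rw [← map_mul, ← map_inv, ← map_mul, h5, map_pow]
  · intro h6
    apply h3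
    have h6' : q (a ^ j * a⁻¹) = 1 := by
      rw [map_mul, map_inv, map_pow]
      show (e (QuotientGroup.mk a)) ^ j * (e (QuotientGroup.mk a))⁻¹ = 1
      rw [h6, mul_inv_cancel]
    have h7 : a ^ j * a⁻¹ ∈ center ↥(centralizer ({t} : Set ↥InstData.M.G)) := by
      have h8 : e (QuotientGroup.mk (a ^ j * a⁻¹)) = 1 := h6'
      rw [e.map_eq_one_iff, QuotientGroup.eq_one_iff] at h8
      exact h8
    have h8 : (a ^ j * a⁻¹) ^ 2 = 1 := by
      have h9 : (⟨a ^ j * a⁻¹, h7⟩ : ↥(center ↥(centralizer ({t} : Set ↥InstData.M.G)))) ^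
          Nat.card ↥(center ↥(centralizer ({t} : Set ↥InstData.M.G))) = 1 := pow_card_eq_one'
      rw [h2] at h9
      exact congrArg Subtype.val h9
    have hap : a ^ p = 1 := by rw [← ha, pow_orderOf_eq_one]
    have h9 : (a ^ j * a⁻¹) ^ p = 1 := by
      have hc : Commute (a ^ j) (a⁻¹) := (Commute.refl a).pow_left j |>.inv_right
      rw [hc.mul_pow, ← pow_mul, mul_comm j, pow_mul, hap, one_pow, one_mul, inv_pow, hap, inv_one]
    have h10 := pow_gcd_eq_one.2 ⟨h8, h9⟩
    have h11 : Nat.gcd 2 p = 1 := (Nat.coprime_primes Nat.prime_two hp).2 (Ne.symm hp2)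
    rw [h11, pow_one, mul_inv_eq_one] at h10
    exact congrArg Subtype.val h10

theorem moved_of {L : Type u} [Group L] (h : Spor.IsoB L) {p : ℕ} (hp : p.Prime) (hp2 : p ≠ 2)
    (H : ∀ x v : ↥InstData.M.G, orderOf x = p → IsConj RowB.t v → x * v = v * x → MV x v) : Moved p L := by
  have hfin : Finite ↥InstData.M.G := MFive.Row.finite_model
  obtain ⟨t, ht, h2, ⟨e⟩⟩ := exists_cover h
  intro y hy
  obtain ⟨a, ha, ha'⟩ := H979.CovLift.exists_lift h2 hp hp2 (x := e.symm y) (by rw [MulEquiv.orderOf_eq, hy])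
  have h3 := movedAt_quot e h2 hp hp2 ha (H a t (by rw [Subgroup.orderOf_coe, ha]) ht (mem_centralizer_singleton_iff.1 a.2))
  rwa [ha', e.apply_symm_apply] at h3

theorem moved_pair {L : Type u} [Group L] (h : Spor.IsoB L) : MovedPair 5 2 L := by
  have hfin : Finite ↥InstData.M.G := MFive.Row.finite_model
  obtain ⟨t, ht, h2, ⟨e⟩⟩ := exists_cover h
  intro y s hy hs hsy
  obtain ⟨a, ha, ha'⟩ := H979.CovLift.exists_lift h2 Nat.prime_five (by norm_num) (x := e.symm y)
    (by rw [MulEquiv.orderOf_eq, hy])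
  have ha5 : a ^ 5 = 1 := by rw [← ha, pow_orderOf_eq_one]
  have h4 : 4 ∣ Nat.card ↥(centralizer ({(a : ↥InstData.M.G)} : Set ↥InstData.M.G)) :=
    H979.CovLift.four_dvd h2 e (by decide : Odd 5) ha5 hs (by rw [ha', e.apply_symm_apply, hsy])
  have h3 := movedAt_quot e h2 Nat.prime_five (by norm_num) ha (mv_five (by rw [Subgroup.orderOf_coe, ha]) ht
    (mem_centralizer_singleton_iff.1 a.2) h4)
  rwa [ha', e.apply_symm_apply] at h3

/-- **S4114, the row `B`.** -/
theorem row_B {G : Type u} [Group G] [Finite G] (h : Cfsg.Spor.IsoB G) : Cfsg.Agent.H520.Row G := by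
  have D := BpSpor.Row.dat_b h
  have hs := D.simple
  have hna := not_comm_of_card D.simple (by rw [D.card]; norm_num)
  refine row_of_pair Nat.prime_five (by rw [D.card]; norm_num) (by rw [D.card]; norm_num) (fun p hp => ?_)
    (fun p hp hp2 hp5 hpG => ?_) (moved_pair h)
  · intro α _
    obtain ⟨e⟩ := h
    obtain ⟨g, hg⟩ := CpAut.TwoInner.inner_b ((e.symm.trans α).trans e)
    refine ⟨e.symm g, ?_⟩
    ext x
    apply e.injective
    have h1 := congrArg (fun f : MulAut Spor.BabyMonster => f (e x)) hg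
    have h2 : e (α (e.symm (e x))) = g * e x * g⁻¹ := h1
    rw [e.symm_apply_apply] at h2
    rw [h2, MulAut.conj_apply, map_mul, map_mul, map_inv, e.apply_symm_apply]
  · by_cases h : p ^ 2 ∣ Nat.card G
    · rw [D.card] at h
      obtain ⟨k, hk, h2k⟩ := OrdDiv.exists_pair (l := [(2, 41), (3, 13), (5, 6), (7, 2), (11, 1), (13, 1), (17, 1),
        (19, 1), (23, 1), (31, 1), (47, 1)]) (by decide +kernel) hp (by norm_num : 1 ≤ 2) h
      simp only [List.mem_cons, Prod.mk.injEq, List.not_mem_nil, or_false] at hk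
      rcases hk with hk | hk | hk | hk | hk | hk | hk | hk | hk | hk | hk
      · exact absurd hk.1 hp2
      · obtain ⟨rfl, -⟩ := hk
        exact moved_of ‹_› Nat.prime_three (by norm_num) fun x v hx hv hxv => mv_three hx hv hxv
      · exact absurd hk.1 hp5
      · obtain ⟨rfl, -⟩ := hk
        exact moved_of ‹_› (by norm_num) (by norm_num) fun x v hx hv hxv => mv_seven hx hv hxv
      all_goals (exfalso; omega)
    · exact moved_of_not_sq hna hp h

end Cfsg.Agent.H763.Ccp.B
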