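import Cfsg.Agent.H497.Stein.HSMc
import Cfsg.Agent.CpAutLy.Row
import Cfsg.Agent.R10.FiveComm
import Cfsg.Agent.BpTab.Final

/-!
# S4114: the row `Ly` (helper763)

The elements of order 3 and 5 of `Ly` commute with involutions, the centralizer of an involution is `2.A₁₁`, and the elements
of order 3 and 5 of `A₁₁` are real.
-/

set_option autoImplicit false

namespace Cfsg.Agent.H763.Ccp.Ly

open Subgroup Cfsg Cfsg.Agent.H520 Cfsg.Agent.H497.Stein
open Cfsg.Agent.TypeM.Two (MT)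

universe u

section perm

open Equiv Equiv.Perm

/-- the elements of order 3 of the alternating group of degree 11 are real -/
theorem real_three {y : Perm (Fin 11)} (hy : orderOf y = 3) :
    ∃ a ∈ alternatingGroup (Fin 11), a * y * a⁻¹ = y⁻¹ := by
  have h1 : IsConj y y⁻¹ := by rw [isConj_iff_cycleType_eq, cycleType_inv]
  obtain ⟨c, hc⟩ := isConj_iff.1 h1
  by_cases hs : sign c = 1
  · exact ⟨c, mem_alternatingGroup.2 hs, hc⟩
  · -- two fixed points
    have hsup : y.support.card ≤ 9 := by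
      obtain ⟨n, hn⟩ := cycleType_prime_order (σ := y) (by rw [hy]; exact Nat.prime_three)
      rw [hy] at hn
      have h2 : y.cycleType.sum ≤ Fintype.card (Fin 11) := by
        rw [sum_cycleType]
        exact Finset.card_le_univ _
      rw [hn, Multiset.sum_replicate, Fintype.card_fin, smul_eq_mul] at h2
      rw [← sum_cycleType, hn, Multiset.sum_replicate, smul_eq_mul]
      omega
    have h2 : 2 ≤ (y.supportᶜ).card := by
      rw [Finset.card_compl, Fintype.card_fin]
      omega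
    obtain ⟨a, ha, b, hb, hab⟩ := Finset.one_lt_card.1 h2
    rw [Finset.mem_compl, mem_support, not_not] at ha hb
    have hcomm : swap a b * y = y * swap a b := by
      rw [swap_mul_eq_mul_swap]
      have h2 : y⁻¹ a = a := by rw [inv_eq_iff_eq, ha]
      have h3 : y⁻¹ b = b := by rw [inv_eq_iff_eq, hb]
      rw [h2, h3]
    refine ⟨c * swap a b, mem_alternatingGroup.2 ?_, ?_⟩
    · rw [Perm.sign_mul, sign_swap hab, (Int.units_eq_one_or (sign c)).resolve_left hs]
      rfl
    · calc c * swap a b * y * (c * swap a b)⁻¹ = c * (swap a b * y) * (swap a b)⁻¹ * c⁻¹ := by group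
        _ = c * (y * swap a b) * (swap a b)⁻¹ * c⁻¹ := by rw [hcomm]
        _ = c * y * c⁻¹ := by group
        _ = y⁻¹ := hc

/-- the elements of order 5 of an alternating group are real -/
theorem real_five {n : ℕ} {y : Perm (Fin n)} (hy : orderOf y = 5) :
    ∃ a ∈ alternatingGroup (Fin n), a * y * a⁻¹ = y⁻¹ := by
  have h5 : y ^ 5 = 1 := by rw [← hy, pow_orderOf_eq_one]
  have h1 : IsConj y (y ^ 2) := by
    rw [isConj_iff_cycleType_eq]
    obtain ⟨m, hm⟩ := cycleType_prime_order (σ := y) (by rw [hy]; exact Nat.prime_five)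
    have h2 : orderOf (y ^ 2) = 5 := by
      rw [orderOf_pow, hy]
      decide
    obtain ⟨m', hm'⟩ := cycleType_prime_order (σ := y ^ 2) (by rw [h2]; exact Nat.prime_five)
    rw [hy] at hm
    rw [h2] at hm'
    have hs : (y ^ 2).support = y.support := by
      apply le_antisymm (support_pow_le y 2)
      have h3 : (y ^ 2) ^ 3 = y := by
        rw [← pow_mul, show 2 * 3 = 5 + 1 by norm_num, pow_succ, h5, one_mul]
      calc y.support = ((y ^ 2) ^ 3).support := by rw [h3]
        _ ≤ (y ^ 2).support := support_pow_le _ 3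
    have h3 : y.cycleType.sum = (y ^ 2).cycleType.sum := by rw [sum_cycleType, sum_cycleType, hs]
    rw [hm, hm', Multiset.sum_replicate, Multiset.sum_replicate, smul_eq_mul, smul_eq_mul] at h3
    rw [hm, hm', Nat.eq_of_mul_eq_mul_right (by norm_num) h3]
  obtain ⟨c, hc⟩ := isConj_iff.1 h1
  refine ⟨c * c, mem_alternatingGroup.2 ?_, ?_⟩
  · rw [Perm.sign_mul, ← sq, Int.units_sq]
  · have h2 : c * y ^ 2 * c⁻¹ = (y ^ 2) ^ 2 := by rw [← conj_pow, hc]
    calc c * c * y * (c * c)⁻¹ = c * (c * y * c⁻¹) * c⁻¹ := by group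
      _ = (y ^ 2) ^ 2 := by rw [hc, h2]
      _ = y⁻¹ := by
        rw [eq_inv_iff_mul_eq_one, ← pow_mul, ← pow_succ, h5]

end perm

/-- real elements of the double cover -/
theorem real_cover {n : ℕ} {C : Type*} [Group C] (K : Cfsg.Agent.SporRec.TwoAn.Cover (Fin n) C) {y : C} {r : ℕ}
    (hr : r.Prime) (hr2 : r ≠ 2) (hy : orderOf y = r) (hz : ∀ g : C, g * K.z = K.z * g)
    (hreal : ∀ x : Equiv.Perm (Fin n), orderOf x = r → ∃ a ∈ alternatingGroup (Fin n), a * x * a⁻¹ = x⁻¹) :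
    IsConj y y⁻¹ := by
  have hyr : y ^ r = 1 := orderOf_dvd_iff_pow_eq_one.1 hy.dvd
  have hzz : K.z * K.z = 1 := K.z_mul_z
  have hrf : Fact r.Prime := ⟨hr⟩
  have hzr : K.z ^ r = K.z := by
    obtain ⟨k, hk⟩ := hr.odd_of_ne_two hr2
    rw [hk, pow_succ, pow_mul, pow_two, hzz, one_pow, one_mul]
  have hyb : orderOf (K.π y) = r := by
    refine orderOf_eq_prime (by rw [← map_pow, hyr, map_one]) fun h => ?_
    rcases (K.ker y).1 h with h1 | h1
    · rw [h1, orderOf_one] at hy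
      exact hr.one_lt.ne hy
    · rw [h1, hzr] at hyr
      exact K.z_ne hyr
  obtain ⟨a, ha, hay⟩ := hreal _ hyb
  rw [← K.range_eq] at ha
  obtain ⟨g, rfl⟩ := ha
  have h1 : K.π (y * (g * y * g⁻¹)) = 1 := by
    rw [map_mul, map_mul, map_mul, map_inv, hay, mul_inv_cancel]
  rcases (K.ker _).1 h1 with h2 | h2
  · exact isConj_iff.2 ⟨g, by rw [eq_comm, inv_eq_iff_mul_eq_one, h2]⟩
  · exfalso
    have h3 : g * y * g⁻¹ = y⁻¹ * K.z := by rw [← h2, inv_mul_cancel_left]
    have h4 : (g * y * g⁻¹) ^ r = 1 := by rw [conj_pow, hyr, mul_one, mul_inv_cancel]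
    rw [h3, (show Commute y⁻¹ K.z from hz _).mul_pow, inv_pow, hyr, inv_one, one_mul, hzr] at h4
    exact K.z_ne h4

/-- elements commuting with an involution in a group with involution centralizer `2.A_n` -/
theorem real_of_mt {n : ℕ} {M : Type*} [Group M] (L : MT n M) {r : ℕ} (hr : r.Prime) (hr2 : r ≠ 2)
    (hreal : ∀ x : Equiv.Perm (Fin n), orderOf x = r → ∃ a ∈ alternatingGroup (Fin n), a * x * a⁻¹ = x⁻¹) {y s : M}
    (hy : orderOf y = r) (hs : orderOf s = 2) (hsy : s * y = y * s) : IsConj y y⁻¹ := by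
  have hss : s * s = 1 := by rw [← pow_two]; exact orderOf_dvd_iff_pow_eq_one.1 hs.dvd
  have hs1 : s ≠ 1 := by
    rintro rfl
    rw [orderOf_one] at hs
    omega
  obtain ⟨g, hg⟩ := L.one s hss hs1
  have hc : g⁻¹ * y * g ∈ centralizer ({L.t} : Set M) := by
    rw [mem_centralizer_singleton_iff]
    calc g⁻¹ * y * g * L.t = g⁻¹ * (y * (g * L.t * g⁻¹)) * g := by group
      _ = g⁻¹ * ((g * L.t * g⁻¹) * y) * g := by rw [hg, hsy]
      _ = L.t * (g⁻¹ * y * g) := by group
  have hzc : ∀ k : ↥(centralizer ({L.t} : Set M)), k * L.K.z = L.K.z * k := by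
    intro k
    apply Subtype.ext
    show (k : M) * (L.K.z : M) = L.K.z * k
    rw [L.hz]
    exact mem_centralizer_singleton_iff.1 k.2
  have ho : orderOf (⟨g⁻¹ * y * g, hc⟩ : ↥(centralizer ({L.t} : Set M))) = r := by
    rw [orderOf_mk, ← hy]
    have h1 : g⁻¹ * y * g = MulAut.conj g⁻¹ y := by rw [MulAut.conj_apply, inv_inv]
    rw [h1, MulEquiv.orderOf_eq]
  obtain ⟨k, hk⟩ := isConj_iff.1 (real_cover L.K hr hr2 ho hzc hreal)
  have hk' : (k : M) * (g⁻¹ * y * g) * (k : M)⁻¹ = (g⁻¹ * y * g)⁻¹ := congrArg Subtype.val hk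
  refine isConj_iff.2 ⟨g * k * g⁻¹, ?_⟩
  calc g * (k : M) * g⁻¹ * y * (g * k * g⁻¹)⁻¹ = g * ((k : M) * (g⁻¹ * y * g) * (k : M)⁻¹) * g⁻¹ := by group
    _ = y⁻¹ := by rw [hk']; group

/-- every element of order 3 of a perfect central extension of `McL` by a group of order 3 commutes with an involution -/
theorem exists_inv_cover {H : Type*} [Group H] [Finite H] (hz : Nat.card ↥(center H) = 3)
    (hq : Cfsg.Spor.IsoMcL (H ⧸ center H)) {y : H} (hy : orderOf y = 3) : ∃ s : H, orderOf s = 2 ∧ s * y = y * s := by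
  have hf2 : Fact (Nat.Prime 2) := ⟨Nat.prime_two⟩
  have hf3 : Fact (Nat.Prime 3) := ⟨Nat.prime_three⟩
  -- lifts of involutions
  have hlift : ∀ t : H ⧸ center H, orderOf t = 2 → ∃ s : H, orderOf s = 2 ∧ (QuotientGroup.mk s : H ⧸ center H) = t := by
    intro t ht
    obtain ⟨u, rfl⟩ := QuotientGroup.mk_surjective t
    have hu : u ^ 2 ∈ center H := by
      rw [← QuotientGroup.eq_one_iff, QuotientGroup.mk_pow, ← ht, pow_orderOf_eq_one]
    have hu3 : (u ^ 2) ^ 3 = 1 := by
      have h1 : (⟨u ^ 2, hu⟩ : center H) ^ 3 = 1 := by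
        rw [← hz]
        exact pow_card_eq_one'
      exact congrArg Subtype.val h1
    refine ⟨u ^ 3, ?_, ?_⟩
    · refine orderOf_eq_prime (by rw [← pow_mul, mul_comm, pow_mul, hu3]) fun h => ?_
      have h1 : (QuotientGroup.mk u : H ⧸ center H) ^ 3 = 1 := by rw [← QuotientGroup.mk_pow, h, QuotientGroup.mk_one]
      have h2 := orderOf_dvd_of_pow_eq_one h1
      rw [ht] at h2
      omega
    · rw [QuotientGroup.mk_pow, pow_succ]
      have h1 : (QuotientGroup.mk u : H ⧸ center H) ^ 2 = 1 := by rw [← ht, pow_orderOf_eq_one]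
      rw [h1, one_mul]
  have hy3 : y ^ 3 = 1 := by rw [← hy, pow_orderOf_eq_one]
  by_cases h1 : (QuotientGroup.mk y : H ⧸ center H) = 1
  · -- central
    obtain ⟨-, -, hcard, -⟩ := Cfsg.Agent.TypeM.FactsMcL.facts hq
    have h2 : 2 ∣ Nat.card (H ⧸ center H) := by
      rw [hcard]
      norm_num
    obtain ⟨t, ht⟩ := exists_prime_orderOf_dvd_card' 2 h2
    obtain ⟨s, hs, -⟩ := hlift t ht
    exact ⟨s, hs, mem_center_iff.1 ((QuotientGroup.eq_one_iff y).1 h1) s⟩
  · have h2 : orderOf (QuotientGroup.mk y : H ⧸ center H) = 3 :=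
      orderOf_eq_prime (by rw [← QuotientGroup.mk_pow, hy3, QuotientGroup.mk_one]) h1
    obtain ⟨t, ht, htc⟩ := Cfsg.Agent.McLType.ThreeElts.exists_commuting_involution_of_iso hq _ h2
    obtain ⟨s, hs, rfl⟩ := hlift t ht
    have hss : s * s = 1 := by rw [← pow_two, ← hs, pow_orderOf_eq_one]
    refine ⟨s, hs, ?_⟩
    -- the commutator is central and inverted by `s`
    have hc : s * y * s⁻¹ * y⁻¹ ∈ center H := by
      rw [← QuotientGroup.eq_one_iff]
      change (QuotientGroup.mk s : H ⧸ center H) * QuotientGroup.mk y * (QuotientGroup.mk s)⁻¹ *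
        (QuotientGroup.mk y)⁻¹ = 1
      rw [htc]
      group
    set z := s * y * s⁻¹ * y⁻¹ with hzdef
    have h4 : s * y * s⁻¹ = z * y := by rw [hzdef]; group
    have h5 : z * z = 1 := by
      have h6 : s * (s * y * s⁻¹) * s⁻¹ = y := by
        calc s * (s * y * s⁻¹) * s⁻¹ = (s * s) * y * (s * s)⁻¹ := by group
          _ = y := by rw [hss]; group
      rw [h4] at h6
      have h7 : s * (z * y) * s⁻¹ = z * (s * y * s⁻¹) := by
        have h8 := mem_center_iff.1 hc s
        calc s * (z * y) * s⁻¹ = (s * z) * y * s⁻¹ := by group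
          _ = (z * s) * y * s⁻¹ := by rw [h8]
          _ = z * (s * y * s⁻¹) := by group
      rw [h7, h4, ← mul_assoc] at h6
      exact mul_eq_right.1 h6
    have h6 : z ^ 3 = 1 := by
      have h7 : (⟨z, hc⟩ : center H) ^ 3 = 1 := by
        rw [← hz]
        exact pow_card_eq_one'
      exact congrArg Subtype.val h7
    have h7 : z = 1 := by
      have h8 : z ^ 3 = z := by rw [pow_succ, pow_two, h5, one_mul]
      rw [h8] at h6
      exact h6
    rw [h7, one_mul] at h4
    exact mul_inv_eq_iff_eq_mul.1 h4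

/-- the elements of order 3 of `Ly` commute with involutions -/
theorem exists_inv_three {y : Cfsg.Spor.Ly} (hy : orderOf y = 3) : ∃ s : Cfsg.Spor.Ly, orderOf s = 2 ∧ s * y = y * s := by
  have hfin : Finite Cfsg.Spor.Ly := Cfsg.Agent.Ly.Setup.finite_ly
  have hf3 : Fact (Nat.Prime 3) := ⟨Nat.prime_three⟩
  obtain ⟨x₀, T⟩ := CpAutLy.Base.exists_three
  set C := centralizer ({x₀} : Set Cfsg.Spor.Ly) with hC
  obtain ⟨-, -, hcard, -⟩ := Cfsg.Agent.TypeM.FactsMcL.facts T.quot
  have hcC : Nat.card ↥C = 3 ^ 7 * 1232000 := by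
    rw [Subgroup.card_eq_card_quotient_mul_card_subgroup (center ↥C), hcard, T.zcard]
    norm_num
  -- a Sylow 3-subgroup of `Ly` in `C`
  obtain ⟨P⟩ : Nonempty (Sylow 3 ↥C) := inferInstance
  have hfac : ∀ {m n : ℕ}, ¬ 3 ∣ m → (3 ^ n * m).factorization 3 = n := by
    intro m n hm
    have hm0 : m ≠ 0 := by
      rintro rfl
      exact hm (dvd_zero 3)
    rw [Nat.factorization_mul (pow_ne_zero n (by norm_num)) hm0, Finsupp.add_apply,
      Nat.Prime.factorization_pow Nat.prime_three, Finsupp.single_eq_same, Nat.factorization_eq_zero_of_not_dvd hm, add_zero]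
  have hPc : Nat.card ↥((P : Subgroup ↥C).map C.subtype) = 3 ^ (Nat.card Cfsg.Spor.Ly).factorization 3 := by
    rw [card_map_of_injective C.subtype_injective, P.card_eq_multiplicity, hcC, Cfsg.Agent.S1702.result.2,
      show 51765179004000000 = 3 ^ 7 * 23669492000000 by norm_num, hfac (by norm_num), hfac (by norm_num)]
  let Q : Sylow 3 Cfsg.Spor.Ly := Sylow.ofCard ((P : Subgroup ↥C).map C.subtype) hPc
  have h1 : IsPGroup 3 (zpowers y) := IsPGroup.of_card (n := 1) (by rw [Nat.card_zpowers, hy, pow_one])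
  obtain ⟨R, hR⟩ := h1.exists_le_sylow
  obtain ⟨g, hg⟩ := MulAction.exists_smul_eq Cfsg.Spor.Ly R Q
  have h2 : g * y * g⁻¹ ∈ (Q : Subgroup Cfsg.Spor.Ly) := by
    rw [← hg]
    exact ⟨y, hR (mem_zpowers y), rfl⟩
  have h3 : g * y * g⁻¹ ∈ C := by
    obtain ⟨x, -, hx⟩ := h2
    rw [← hx]
    exact x.2
  have h4 : orderOf (⟨g * y * g⁻¹, h3⟩ : ↥C) = 3 := by
    rw [orderOf_mk, ← hy]
    exact MulEquiv.orderOf_eq (MulAut.conj g) y
  obtain ⟨s, hs, hsy⟩ := exists_inv_cover T.zcard T.quot h4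
  have hsy' : (s : Cfsg.Spor.Ly) * (g * y * g⁻¹) = g * y * g⁻¹ * s := congrArg Subtype.val hsy
  refine ⟨g⁻¹ * s * g, ?_, ?_⟩
  · have h5 : g⁻¹ * (s : Cfsg.Spor.Ly) * g = MulAut.conj g⁻¹ s := by rw [MulAut.conj_apply, inv_inv]
    rw [h5, MulEquiv.orderOf_eq, orderOf_coe, hs]
  · calc g⁻¹ * (s : Cfsg.Spor.Ly) * g * y = g⁻¹ * (s * (g * y * g⁻¹)) * g := by group
      _ = g⁻¹ * (g * y * g⁻¹ * s) * g := by rw [hsy']
      _ = y * (g⁻¹ * s * g) := by group

theorem moved_three : Moved 3 Cfsg.Spor.Ly := by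
  have hfin : Finite Cfsg.Spor.Ly := Cfsg.Agent.Ly.Setup.finite_ly
  obtain ⟨L⟩ := Cfsg.Agent.TypeM.FactsLy.exists_mt_ly
  refine moved_of_real Nat.prime_three (by norm_num) fun y hy => ?_
  obtain ⟨s, hs, hsy⟩ := exists_inv_three hy
  exact real_of_mt L Nat.prime_three (by norm_num) (fun _ h => real_three h) hy hs hsy

theorem moved_five : Moved 5 Cfsg.Spor.Ly := by
  have hfin : Finite Cfsg.Spor.Ly := Cfsg.Agent.Ly.Setup.finite_ly
  obtain ⟨L⟩ := Cfsg.Agent.TypeM.FactsLy.exists_mt_ly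
  refine moved_of_real Nat.prime_five (by norm_num) fun y hy => ?_
  obtain ⟨s, hs, hsy⟩ := Cfsg.Agent.R10.FiveComm.exists_involution (k := y) (by rw [← hy, pow_orderOf_eq_one])
  exact real_of_mt L Nat.prime_five (by norm_num) (fun _ h => real_five h) hy hs hsy

/-- **S4114, the row `Ly`.** -/
theorem row_Ly {G : Type u} [Group G] [Finite G] (h : Cfsg.Spor.IsoLy G) : Cfsg.Agent.H520.Row G := by
  have D := BpSpor.Row.dat_ly h
  obtain ⟨e⟩ := h
  refine row_of_dat D (l := [(2, 8), (3, 7), (5, 6), (7, 1), (11, 1), (31, 1), (37, 1), (67, 1)])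
    (by decide +kernel) (by norm_num) fun x hx hx2 hx3 => ?_
  simp only [List.mem_cons, List.not_mem_nil, or_false] at hx
  rcases hx with rfl | rfl | rfl | rfl | rfl | rfl | rfl | rfl
  · exact absurd rfl hx3
  · exact moved_three.congr e
  · exact moved_five.congr e
  all_goals exact absurd hx2 (by norm_num)

end Cfsg.Agent.H763.Ccp.Ly
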