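import Cfsg.Agent.H763.Ccp.MV
import Cfsg.Agent.CTwoTab.FiTF
import Cfsg.Agent.KFacts.FiTF.FrameF

/-!
# `InvC Fi24'` (helper763)
-/

set_option autoImplicit false
set_option maxRecDepth 100000

namespace Cfsg.Agent.H763.Ccp.InvFi

open Subgroup Cfsg Cfsg.Agent.H763.Ccp.MV
open Cfsg.Spor Cfsg.Agent.R01 Cfsg.Agent.R08 Cfsg.Agent.R08.FiTwentyFour
open Cfsg.Agent.CTwoTab.FiTF

theorem card_cent_z0 : Nat.card ↥(centralizer ({z0} : Set Spor.Fi24')) ∣ 321052999680 := by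
  have := finite_Fi24
  rw [← Cfsg.Agent.KFacts.FiTF.Order.card]
  let f : ↥(centralizer ({z0} : Set Spor.Fi24')) →* ↥(centralizer ({KFacts.FiTF.Defs.z} : Set Spor.Fi24)) :=
    ((commutator Fi24).subtype.comp (centralizer ({z0} : Set Spor.Fi24')).subtype).codRestrict _ (by
      intro x
      rw [mem_centralizer_singleton_iff]
      exact congrArg Subtype.val (mem_centralizer_singleton_iff.1 x.2))
  refine Subgroup.card_dvd_of_injective f ?_
  intro x y h
  have h1 := (Subtype.mk.injEq _ _ _ _).mp h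
  exact Subtype.ext (Subtype.ext h1)

theorem invC_fi : InvC Spor.Fi24' := by
  have := finite_Fi24
  have hfin : Finite Spor.Fi24' := inferInstance
  have hpair : ∀ t : Spor.Fi24', (∃ a b : Fi24, ∃ _ : Cfsg.Agent.R08.TetFi24A.At a b, (t : Fi24) = a * b) →
      13 ∣ Nat.card ↥(centralizer ({t} : Set Spor.Fi24')) := by
    rintro t ⟨a, b, P, h1⟩
    have h2 : Nat.card ↥(N a b) ∣ Nat.card ↥(centralizer ({t} : Set Spor.Fi24')) :=
      Subgroup.card_dvd_of_le (N_le h1)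
    refine Dvd.dvd.trans ?_ h2
    rw [Nat.card_congr (eN a b).toEquiv, OddHalf.D4.Spor.FiTF.card_Cab P]
    norm_num
  have hz : ∀ t : Spor.Fi24', (∃ g : Spor.Fi24', t = g * z0 * g⁻¹) →
      ¬ 13 ∣ Nat.card ↥(centralizer ({t} : Set Spor.Fi24')) := by
    rintro t ⟨g, hg⟩ h1
    rw [← card_cent_of_isConj (isConj_iff.2 ⟨g, hg.symm⟩)] at h1
    have h2 := h1.trans card_cent_z0
    revert h2
    norm_num
  intro s t hs ht hst
  rcases classes s hs with h | h <;> rcases classes t ht with h' | h'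
  · obtain ⟨a, b, P, h1⟩ := h
    obtain ⟨a', b', P', h1'⟩ := h'
    obtain ⟨g, hg, h2, h3⟩ := FiTwentyFour.trans2 P.ha P.hb P'.ha P'.hb P.ne P.ab P'.ne P'.ab
    refine isConj_iff.2 ⟨⟨g, hg⟩, Subtype.ext ?_⟩
    show g * (s : Fi24) * g⁻¹ = t
    rw [h1, h1', ← h2, ← h3]
    group
  · exact absurd (hst ▸ hpair s h) (hz t h')
  · exact absurd (hst.symm ▸ hpair t h') (hz s h)
  · obtain ⟨g, hg⟩ := h
    obtain ⟨g', hg'⟩ := h'
    exact (isConj_iff.2 ⟨g, hg.symm⟩).symm.trans (isConj_iff.2 ⟨g', hg'.symm⟩)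

end Cfsg.Agent.H763.Ccp.InvFi
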