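import Cfsg.Agent.H763.Ccp.InvFacts
import Cfsg.Agent.H763.Ccp.InvFi
import Cfsg.Agent.H859.Ccp.Co1

/-!
# `MV x t` from a chart (helper763)

`G` the Monster, `t` of class `2A`, `x` of odd prime order commuting with `t`; the analysis is the one of `PreUniqB`
(helpers 19, 20).
-/

set_option autoImplicit false

namespace Cfsg.Agent.H763.Ccp.BChart

open Cfsg Cfsg.Agent.PreUniqB Cfsg.Agent.MonsterU Cfsg.Agent.PreUniq Cfsg.Agent.H497.Stein Cfsg.Agent.H763.Ccp.MV
open Cfsg.Agent.LThreeMB (fr fr_conj Zx XX zD tt exists_XX_equiv CoOne KChart.Cent KChart.pi mk mk_mul mk_congr mk_eq_mk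
  mk_eq_one exists_mk conj_comm)
open Cfsg.Agent.MFive (orderOf_pi TrNe HasPair isolated conj_pair WClassOf orderOf_conj'' exists_conj_of_pi_eq
  exists_conj_of_conj)
open Cfsg.Agent.MonsterU.Ch
open Cfsg.Agent.MonsterU.Lam2 (L2)
open Cfsg.Spor (Co1)
open Subgroup (centralizer zpowers mem_centralizer_singleton_iff mem_zpowers_iff)

universe u v

variable {p : ℕ} {G : Type u} [Group G] {Q : Subgroup G} {z : G} {eta : G → L2}
  {pi : Subgroup.centralizer ({z} : Set G) →* Co1} {T : G → Prop}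

/-- elements of `C(z)` whose images are moved -/
theorem movedAt_of_pi (h : Chart Q z eta pi) (hp : p.Prime) (ho : Odd p) {x : Subgroup.centralizer ({z} : Set G)}
    (hx : orderOf x = p) (hm : MovedAt (pi x)) : MovedAt (x : G) := by
  obtain ⟨s, j, hs, hj⟩ := hm
  have hxp : x ^ p = 1 := by rw [← hx, pow_orderOf_eq_one]
  obtain ⟨c, hc⟩ := exists_conj_of_conj h hp ho (x := x) (y := x ^ j) hxp
    (by rw [← pow_mul, mul_comm, pow_mul, hxp, one_pow]) (s := s) (by rw [hs, map_pow])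
  refine ⟨c, j, ?_, ?_⟩
  · have h1 := congrArg Subtype.val hc
    exact h1
  · intro h1
    apply hj
    rw [← map_pow]
    congr 1
    exact Subtype.ext h1

/-- **Fixed rank 0, `t` commuting with `z`.** -/
theorem mv_zero [Finite G] (h : Chart Q z eta pi) (hp : p.Prime) (ho : Odd p) (hT : TCl Q z T)
    {x : Subgroup.centralizer ({z} : Set G)} (hx : orderOf x = p) (hfr : fr (pi x) = 1) (hm : MovedAt (pi x))
    (hI : InvC (XX (pi x))) {t : G} (htT : T t) (htz : t * z = z * t) (htx : t * (x : G) = x * t) : MV (x : G) t := by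
  have hfin : Finite Co1 := Finite.of_surjective _ h.pi_surj
  have hp2 : p ≠ 2 := by
    rintro rfl
    exact absurd ho (by decide)
  have hxp : x ^ p = 1 := by rw [← hx, pow_orderOf_eq_one]
  have hxo : orderOf (x : G) = p := by rw [Subgroup.orderOf_coe, hx]
  have htt := hT.sq htT
  have hnQ : t ∉ Q := by
    intro hq
    rcases MonGen.free_of_fr h ho hxp hfr hq htx.symm with h1 | h1
    · exact hT.ne_one htT h1
    · exact hT.ne _ htT h1
  let tC : Subgroup.centralizer ({z} : Set G) := ⟨t, mem_centralizer_singleton_iff.2 htz⟩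
  have htC1 : pi tC ≠ 1 := fun h1 => hnQ ((h.pi_eq_one tC).1 h1)
  have htCC : tC * tC = 1 := Subtype.ext htt
  have h2 : Fact (Nat.Prime 2) := ⟨Nat.prime_two⟩
  have hwo : orderOf (pi tC) = 2 := orderOf_eq_prime (by rw [pow_two, ← map_mul, htCC, map_one]) htC1
  have htCx : tC * x = x * tC := Subtype.ext htx
  obtain ⟨r, j, hr1, hr2, hr3⟩ := mv_of_invC hp hp2 (orderOf_pi h hp ho hx) hwo
    (by rw [← map_mul, htCx, map_mul]) hm hI
  obtain ⟨c₀, hc₀⟩ := h.pi_surj r
  have hxjp : (x ^ j) ^ p = 1 := by rw [← pow_mul, mul_comm, pow_mul, hxp, one_pow]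
  obtain ⟨q, hq, hqx⟩ := exists_conj_of_pi_eq h hp ho (x := c₀ * x * c₀⁻¹) (y := x ^ j)
    (by rw [conj_pow, hxp, mul_one, mul_inv_cancel]) hxjp (by rw [map_mul, map_mul, map_inv, hc₀, map_pow, hr1])
  have hqz : q ∈ Subgroup.centralizer ({z} : Set G) := mem_centralizer_singleton_iff.2 (h.large.comm_z q hq)
  let c : Subgroup.centralizer ({z} : Set G) := ⟨q, hqz⟩ * c₀
  have hpic : pi c = r := by
    show pi (⟨q, hqz⟩ * c₀) = r
    rw [map_mul, (h.pi_eq_one ⟨q, hqz⟩).2 hq, one_mul, hc₀]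
  have hcx : (c : G) * x * (c : G)⁻¹ = (x : G) ^ j := by
    calc (c : G) * x * (c : G)⁻¹ = q * (((c₀ * x * c₀⁻¹ : Subgroup.centralizer ({z} : Set G)) : G)) * q⁻¹ := by
          show (q * (c₀ : G)) * x * (q * (c₀ : G))⁻¹ = q * ((c₀ : G) * x * (c₀ : G)⁻¹) * q⁻¹
          group
      _ = (x : G) ^ j := hqx
  have hxj : (x : G) ^ j ≠ x := by
    intro h1
    apply hr2
    rw [← map_pow]
    congr 1
    exact Subtype.ext h1
  have hoj : orderOf ((x : G) ^ j) = p := by
    rw [← hcx, ← hxo]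
    exact MulEquiv.orderOf_eq (MulAut.conj (c : G)) (x : G)
  -- `d = c t c⁻¹ t⁻¹`
  have hctx : ((c : G) * t * (c : G)⁻¹) * x = x * ((c : G) * t * (c : G)⁻¹) := by
    have h1 : (c : G) * t * (c : G)⁻¹ ∈ centralizer ({(x : G) ^ j} : Set G) := by
      rw [mem_centralizer_singleton_iff, ← hcx]
      exact conj_comm' htx
    rw [MFive.centralizer_pow hp hxo hoj] at h1
    exact mem_centralizer_singleton_iff.1 h1
  let d : Subgroup.centralizer ({z} : Set G) := c * tC * c⁻¹ * tC⁻¹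
  have hd : pi d = 1 := by
    show pi (c * tC * c⁻¹ * tC⁻¹) = 1
    rw [map_mul, map_mul, map_mul, map_inv, map_inv, hpic, hr3]
    group
  have hdQ : (d : G) ∈ Q := (h.pi_eq_one d).1 hd
  have hde : (d : G) = (c : G) * t * (c : G)⁻¹ * t⁻¹ := rfl
  have hxd : (x : G) * (d : G) = (d : G) * x := by
    rw [hde]
    have h1 : Commute (x : G) ((c : G) * t * (c : G)⁻¹) := hctx.symm
    have h3 : Commute (x : G) t := htx.symm
    exact (h1.mul_right h3.inv_right).eq
  rcases MonGen.free_of_fr h ho hxp hfr hdQ hxd with h1 | h1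
  · refine ⟨c, j, hcx, hxj, ?_⟩
    rw [hde, mul_inv_eq_one] at h1
    exact mul_inv_eq_iff_eq_mul.1 h1
  · exfalso
    rw [hde, mul_inv_eq_iff_eq_mul] at h1
    obtain ⟨k, hk⟩ := hT.fus t htT htz hnQ
    have h3 : T (k⁻¹ * (z * t) * k⁻¹⁻¹) := hT.conj _ _ (by rw [← h1]; exact hT.conj t c htT)
    have h4 : k⁻¹ * (z * t) * k⁻¹⁻¹ = z := by
      rw [← hk]; group
    rw [h4] at h3
    exact hT.ne z h3 rfl

/-- The case of fixed rank 0 and `t z = z t`. -/
def ZeroV (p : ℕ) {G : Type u} [Group G] (z : G) (pi : Subgroup.centralizer ({z} : Set G) →* Co1) (T : G → Prop) : Prop :=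
  ∀ (x : Subgroup.centralizer ({z} : Set G)) (t : G), orderOf x = p → fr (pi x) = 1 → T t → t * z = z * t →
    t * (x : G) = x * t → MV (x : G) t

/-- **Fixed rank 0.** -/
theorem mv_zero_of [Finite G] (h : Chart Q z eta pi) (htr : TrNe p z pi)
    (hT : TCl Q z T) (H0 : ZeroV p z pi T) {x : Subgroup.centralizer ({z} : Set G)} (hx : orderOf x = p)
    (hfr : fr (pi x) = 1) {t : G} (htT : T t) (hxt : (x : G) * t = t * x) : MV (x : G) t := by
  let tD' : ↥(centralizer ({(x : G)} : Set G)) := ⟨t, mem_centralizer_singleton_iff.2 hxt.symm⟩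
  have hzo : orderOf (zD x) = 2 := MFive.orderOf_zD h x
  have hto : orderOf tD' = 2 := by rw [← Subgroup.orderOf_coe]; exact hT.two t htT
  obtain ⟨d, hd⟩ := LThreeBX.Abs.exists_conj_comm hzo (fun d hd => Subtype.ext (isolated h htr hx hfr d
    (mem_centralizer_singleton_iff.1 d.2) (congrArg Subtype.val hd))) hto
  have hd' : ((d : G) * t * (d : G)⁻¹) * z = z * ((d : G) * t * (d : G)⁻¹) := congrArg Subtype.val hd
  have hdx : (d : G) * x = x * d := mem_centralizer_singleton_iff.1 d.2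
  set t' := (d : G) * t * (d : G)⁻¹ with ht'
  have hT' : T t' := hT.conj t d htT
  have hx't : (x : G) * t' = t' * x := by
    have hdx' : Commute (x : G) (d : G) := hdx.symm
    have h1 : Commute (x : G) t := hxt
    exact ((hdx'.mul_right h1).mul_right hdx'.inv_right).eq
  have h1 := H0 x t' hx hfr hT' hd' hx't.symm
  refine MV.conj (g := (d : G)⁻¹) ?_ ?_ h1
  · rw [inv_inv, mul_assoc, ← hdx, inv_mul_cancel_left]
  · rw [ht', inv_inv]; group

/-- **The middle fixed rank.** -/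
theorem mv_mid [Finite G] (h : Chart Q z eta pi) (hp : p.Prime) (ho : Odd p) (htr : TrNe p z pi)
    (hT : TCl Q z T) (H0 : ZeroV p z pi T) {n : ℕ} {R : ℕ → Prop}
    (hC : ∀ s : Co1, orderOf s = p → fr s = 1 ∨ fr s = n ∨ R (fr s)) (hcl : WClassOf p n)
    (hR : ∀ x : Subgroup.centralizer ({z} : Set G), orderOf x = p → R (fr (pi x)) →
      IsSimpleGroup (XX (x : G)) ∧ Subgroup.center (XX (x : G)) ≠ ⊤) (hpr : HasPair p z pi)
    {x : Subgroup.centralizer ({z} : Set G)} (hx : orderOf x = p)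
    (hfr : fr (pi x) = n) {t : G} (htT : T t) (hxt : (x : G) * t = t * x) : MV (x : G) t := by
  obtain ⟨x₀, u, g, hx₀, hfr₀, huz, hux, hne, hg⟩ := hpr
  obtain ⟨k, i, hk⟩ := conj_pair h hp ho htr hC hcl hR hx₀ hfr₀ huz hux hne hg hx hfr
  have hoi : orderOf (x₀ ^ i) = p := by
    rw [← Subgroup.orderOf_coe]
    show orderOf ((x₀ : G) ^ i) = p
    rw [← hk, ← hx, ← Subgroup.orderOf_coe]
    exact MulEquiv.orderOf_eq (MulAut.conj k) (x : G)
  have hfi : fr (pi (x₀ ^ i)) = 1 := by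
    rw [map_pow]
    refine fr_pow hp (orderOf_pi h hp ho hx₀) hfr₀ ?_
    rw [← map_pow]
    exact orderOf_pi h hp ho hoi
  have hc : ((x₀ ^ i : Subgroup.centralizer ({z} : Set G)) : G) * (k * t * k⁻¹) =
      (k * t * k⁻¹) * ((x₀ ^ i : Subgroup.centralizer ({z} : Set G)) : G) := by
    show (x₀ : G) ^ i * (k * t * k⁻¹) = (k * t * k⁻¹) * (x₀ : G) ^ i
    rw [← hk]
    calc k * (x : G) * k⁻¹ * (k * t * k⁻¹) = k * ((x : G) * t) * k⁻¹ := by group
      _ = k * (t * x) * k⁻¹ := by rw [hxt]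
      _ = k * t * k⁻¹ * (k * x * k⁻¹) := by group
  have h1 := mv_zero_of h htr hT H0 hoi hfi (hT.conj t k htT) hc
  refine MV.conj (g := k⁻¹) ?_ ?_ h1
  · show k⁻¹ * ((x₀ : G) ^ i) * k⁻¹⁻¹ = x
    rw [← hk]; group
  · group

/-- an element commuting with a conjugate of `z` is conjugate to an element of `C(z)` -/
theorem exists_cent {x : G} (hex : ∃ g : G, (g * z * g⁻¹) * x = x * (g * z * g⁻¹)) (hx : orderOf x = p) :
    ∃ (g : G) (x' : Subgroup.centralizer ({z} : Set G)), g * (x' : G) * g⁻¹ = x ∧ orderOf x' = p := by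
  obtain ⟨g, hg⟩ := hex
  have h1 : (g⁻¹ * x * g) * z = z * (g⁻¹ * x * g) := by
    calc (g⁻¹ * x * g) * z = g⁻¹ * (x * (g * z * g⁻¹)) * g := by group
      _ = g⁻¹ * ((g * z * g⁻¹) * x) * g := by rw [hg]
      _ = z * (g⁻¹ * x * g) := by group
  refine ⟨g, ⟨g⁻¹ * x * g, mem_centralizer_singleton_iff.2 h1⟩, ?_, ?_⟩
  · show g * (g⁻¹ * x * g) * g⁻¹ = x
    group
  · rw [← Subgroup.orderOf_coe]
    show orderOf (g⁻¹ * x * g) = p
    rw [orderOf_conj'', hx]

/-- elements commuting with a conjugate of `z` are moved -/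
theorem movedAt_of_ex (h : Chart Q z eta pi) (hp : p.Prime) (ho : Odd p) (hm : Moved p Co1) {x : G}
    (hex : ∃ g : G, (g * z * g⁻¹) * x = x * (g * z * g⁻¹)) (hx : orderOf x = p) : MovedAt x := by
  obtain ⟨g, x', rfl, hx'⟩ := exists_cent hex hx
  exact (movedAt_of_pi h hp ho hx' (hm _ (orderOf_pi h hp ho hx'))).conj g

/-- **For `x` commuting with a conjugate of `z`.** -/
theorem mv_of_conj (hT : TCl Q z T)
    (H : ∀ (x : Subgroup.centralizer ({z} : Set G)) (t : G), orderOf x = p → T t → (x : G) * t = t * x → MV (x : G) t)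
    {x t : G} (hx : orderOf x = p) (htT : T t) (hxt : x * t = t * x)
    (hex : ∃ g : G, (g * z * g⁻¹) * x = x * (g * z * g⁻¹)) : MV x t := by
  obtain ⟨g, x', rfl, hx'⟩ := exists_cent hex hx
  have h4 : (x' : G) * (g⁻¹ * t * g) = (g⁻¹ * t * g) * x' := by
    calc (x' : G) * (g⁻¹ * t * g) = g⁻¹ * ((g * x' * g⁻¹) * t) * g := by group
      _ = g⁻¹ * (t * (g * x' * g⁻¹)) * g := by rw [hxt]
      _ = _ := by group
  have h6 : T (g⁻¹ * t * g) := by
    have h5 := hT.conj t g⁻¹ htT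
    rwa [inv_inv] at h5
  exact MV.conj rfl (by group) (H x' _ hx' h6 h4)

/-- **`C(x) / ⟨x⟩` with `InvC`.** -/
theorem mv_of_iso [Finite G] (h : Chart Q z eta pi) (hp : p.Prime) (ho : Odd p) (hT : TCl Q z T)
    {x : Subgroup.centralizer ({z} : Set G)} (hx : orderOf x = p) (hm : MovedAt (pi x)) {F : Type v} [Group F]
    (e : XX (x : G) ≃* F) (hF : InvC F) {t : G} (htT : T t) (hxt : (x : G) * t = t * x) : MV (x : G) t := by
  have hp2 : p ≠ 2 := by
    rintro rfl
    exact absurd ho (by decide)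
  exact mv_of_invC hp hp2 (by rw [Subgroup.orderOf_coe, hx]) (hT.two t htT) hxt.symm (movedAt_of_pi h hp ho hx hm)
    (hF.congr e)

section

variable {V P W : Type*} [AddCommGroup V] [Module ℚ V]
  [DistribMulAction G V] [SMulCommClass G ℚ V] [Group P] [AddCommGroup W] [Module ℚ W]
  {M : MonsterX.KSide.KS G V P W} {θ : leechLattice → P}

/-- **All `x` of order 3 commuting with a conjugate of `z`.** -/
theorem mv_three [Finite G]
    [IsSimpleGroup G] (hc : LThreeMB.KChart.Cent M) (I : CoOne)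
    (ht : LThreeMB.TrNe M.z (LThreeMB.KChart.pi hc)) (hpr : HasPair 3 M.z (LThreeMB.KChart.pi hc))
    {T : G → Prop} {Q : Subgroup G} {eta : G → L2} (h : Chart Q M.z eta (LThreeMB.KChart.pi hc)) (hT : TCl Q M.z T)
    {x t : G} (hx : orderOf x = 3) (htT : T t) (hxt : x * t = t * x)
    (hex : ∃ g : G, (g * M.z * g⁻¹) * x = x * (g * M.z * g⁻¹)) : MV x t := by
  have htr : TrNe 3 M.z (LThreeMB.KChart.pi hc) := by
    intro x x' u g hx hx' hfr hfr' huz huu hu1 hne hux hg
    exact ht x x' u g hx hx' hfr hfr' huz huu hu1 hne hux hg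
  have hmv := H859.Ccp.Co1.moved_three
  have hmx : ∀ x : Subgroup.centralizer ({M.z} : Set G), orderOf x = 3 → MovedAt (LThreeMB.KChart.pi hc x) :=
    fun x hx => hmv _ (orderOf_pi h Nat.prime_three (by decide) hx)
  have H0 : ZeroV 3 M.z (LThreeMB.KChart.pi hc) T := by
    intro x t hx hfr htT htz htx
    obtain ⟨e⟩ := I.suz _ (orderOf_pi h Nat.prime_three (by decide) hx) hfr
    exact mv_zero h Nat.prime_three (by decide) hT hx hfr (hmx x hx) (InvFacts.invC_suz.congr e) htT htz htx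
  refine mv_of_conj hT (fun x t hx htT hxt => ?_) hx htT hxt hex
  rcases LThreeCo1.Ranks.ranks _ (orderOf_pi h Nat.prime_three (by decide) hx) with h1 | h1 | h1 | h1
  · exact mv_zero_of h htr hT H0 hx h1 htT hxt
  · refine mv_mid h Nat.prime_three (by decide) htr hT H0 (n := 2 ^ 6) (R := fun n => n = 2 ^ 8 ∨ n = 2 ^ 12)
      (fun s hs => ?_) (MFive.ClassOf.weak LThreeCo1.Ranks.six) (fun y hy h2 => ?_) hpr hx h1 htT hxt
    · rcases LThreeCo1.Ranks.ranks s hs with h1 | h1 | h1 | h1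
      · exact Or.inl h1
      · exact Or.inr (Or.inl h1)
      · exact Or.inr (Or.inr (Or.inl h1))
      · exact Or.inr (Or.inr (Or.inr h1))
    · have h3 := MonThree.spl_of_inputs h I hy h2
      refine ⟨h3.simple, fun h4 => ?_⟩
      obtain ⟨a, b, hab⟩ := h3.nc
      apply hab
      have h5 : b ∈ Subgroup.center (XX (y : G)) := by rw [h4]; trivial
      exact Subgroup.mem_center_iff.1 h5 a
  · obtain ⟨s, hs, hfs, ⟨e⟩, hg, hf⟩ := I.nine
    obtain ⟨x', hx', hs', c, hc'⟩ := LThreeMB.exists_conj_to h hx hs (by rw [h1]; exact I.eight) (by rw [hfs, h1])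
    subst hs'
    obtain ⟨-, ⟨f⟩⟩ := exists_XX_equiv hc'
    obtain ⟨e'⟩ := LThreeMB.iso_th h hx' hfs (by rw [hfs]; exact I.eight) hf e hg
    have key : ∀ e'' : XX (x : G) ≃* Spor.Th, MV (x : G) t := fun e'' =>
      mv_of_iso h Nat.prime_three (by decide) hT hx (hmx x hx) e'' InvFacts.invC_th htT hxt
    first
    | exact key (f.trans e')
    | exact key (f.symm.trans e')
  · obtain ⟨e⟩ := isoFi h I hx h1
    exact mv_of_iso h Nat.prime_three (by decide) hT hx (hmx x hx) e InvFi.invC_fi htT hxt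

end

/-- **All `x` of order 5 commuting with a conjugate of `z`.** -/
theorem mv_five [Finite G] (h : Chart Q z eta pi) (htr : TrNe 5 z pi) (hpr : HasPair 5 z pi)
    (ranks : ∀ s : Co1, orderOf s = 5 → fr s = 1 ∨ fr s = 2 ^ 4 ∨ fr s = 2 ^ 8) (hcl : WClassOf 5 (2 ^ 4))
    (h8 : MFive.HNEight z pi) (hJ : ∀ s : Co1, orderOf s = 5 → fr s = 1 → Spor.IsoJ2 (XX s)) (hT : TCl Q z T)
    {x t : G} (hx : orderOf x = 5) (htT : T t) (hxt : x * t = t * x)
    (hex : ∃ g : G, (g * z * g⁻¹) * x = x * (g * z * g⁻¹)) : MV x t := by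
  have hmv := H859.Ccp.Co1.moved_five
  have hfin : Finite Co1 := Finite.of_surjective _ h.pi_surj
  have hmx : ∀ x : Subgroup.centralizer ({z} : Set G), orderOf x = 5 → MovedAt (pi x) :=
    fun x hx => hmv _ (orderOf_pi h Nat.prime_five (by decide) hx)
  have H0 : ZeroV 5 z pi T := by
    intro x t hx hfr htT htz htx
    exact mv_zero h Nat.prime_five (by decide) hT hx hfr (hmx x hx)
      (InvFacts.invC_j2 (hJ _ (orderOf_pi h Nat.prime_five (by decide) hx) hfr)) htT htz htx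
  refine mv_of_conj hT (fun x t hx htT hxt => ?_) hx htT hxt hex
  rcases ranks _ (orderOf_pi h Nat.prime_five (by decide) hx) with h1 | h1 | h1
  · exact mv_zero_of h htr hT H0 hx h1 htT hxt
  · exact mv_mid h Nat.prime_five (by decide) htr hT H0 (n := 2 ^ 4) (R := fun n => n = 2 ^ 8) ranks hcl
      (fun y hy h2 => ⟨(MFive.simple_of_isoHN (h8 y hy h2)).1, (MFive.simple_of_isoHN (h8 y hy h2)).2.1⟩) hpr hx h1
      htT hxt
  · obtain ⟨e⟩ := h8 x hx h1
    exact mv_of_iso h Nat.prime_five (by decide) hT hx (hmx x hx) e InvFacts.invC_hn htT hxt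

end Cfsg.Agent.H763.Ccp.BChart
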