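import Cfsg.Agent.H763.Ccp.MV
import Cfsg.Agent.SigZeroHN.Main
import Cfsg.Agent.MonsterX.ThOneClass
import Cfsg.Agent.CTwoTab.He
import Cfsg.Agent.CTwoTab.Suz
import Cfsg.Agent.SuzThree.CentCard
import Cfsg.Agent.KFacts.J2.Facts

/-!
# `InvC X` for `X = HN, Th, He, Suz, J2` (helper763)

Two classes of involutions, with centralizers of different orders (one class for `Th`).
-/

set_option autoImplicit false

namespace Cfsg.Agent.H763.Ccp.InvFacts

open Subgroup Cfsg Cfsg.Agent.H763.Ccp.MV

universe u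

theorem invC_hn : InvC Spor.HN := by
  intro a b ha hb hab
  rcases SigZeroHN.card_centralizer_cases ha with ⟨h1, h2⟩ | ⟨h1, h2⟩ <;>
    rcases SigZeroHN.card_centralizer_cases hb with ⟨h3, h4⟩ | ⟨h3, h4⟩
  · exact h1.trans h3.symm
  · rw [h2, h4] at hab; norm_num at hab
  · rw [h2, h4] at hab; norm_num at hab
  · exact h1.trans h3.symm

theorem invC_th : InvC Spor.Th := InvC.of_one MonsterX.ThOneClass.oneClass

theorem sq_of_two {X : Type u} [Group X] {t : X} (ht : orderOf t = 2) : t * t = 1 ∧ t ≠ 1 := by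
  refine ⟨by rw [← pow_two, ← ht, pow_orderOf_eq_one], fun h => ?_⟩
  rw [h, orderOf_one] at ht
  exact absurd ht (by norm_num)

theorem invC_suz : InvC Spor.Suz := by
  refine InvC.of_two (a := SuzThree.CentA.z0) (b := KFacts.SuzLFour.e0) (fun t ht => ?_) ?_
  · rcases CTwoTab.Suz.classes (sq_of_two ht).1 (sq_of_two ht).2 with h | h
    · exact Or.inl h.symm
    · exact Or.inr h.symm
  · rw [show Nat.card ↥(centralizer ({SuzThree.CentA.z0} : Set Spor.Suz)) = 3317760 from SuzThree.CentCard.card_C1,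
      show Nat.card ↥(centralizer ({KFacts.SuzLFour.e0} : Set Spor.Suz)) = 161280 from KFacts.SuzTwoB.card_CE]
    norm_num

theorem invC_j2 {X : Type u} [Group X] [Finite X] (h : Spor.IsoJ2 X) : InvC X := by
  obtain ⟨t, u, Q, v, ρ, D⟩ := KFacts.J2.Facts.exists_dat_of h
  refine InvC.of_two (a := t) (b := u) (fun s hs => ?_) ?_
  · rcases D.F.cover s hs with h | h
    · exact Or.inl h.symm
    · exact Or.inr h.symm
  · rw [D.cardC, D.card_cent_u]
    norm_num

theorem invC_he : InvC Spor.He := by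
  have hfin := Cfsg.Agent.KFacts.He.Hyp.finHe
  refine InvC.of_two (a := CTwoTab.He.z) (b := KFacts.He.Lv.gn .a) (fun t ht => ?_) ?_
  · rcases CTwoTab.He.classes (sq_of_two ht).1 (sq_of_two ht).2 with h | h
    · exact Or.inl h.symm
    · exact Or.inr h.symm
  · intro h
    rw [show Nat.card ↥(centralizer ({CTwoTab.He.z} : Set Spor.He)) = 21504 from
      KFacts.He.Classes.card_centralizer] at h
    have h1 := Subgroup.card_dvd_of_le CTwoTab.He.L_le_cent
    rw [← h] at h1
    rw [CTwoTab.He.card_L] at h1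
    exact absurd h1 (by norm_num)

end Cfsg.Agent.H763.Ccp.InvFacts
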