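import Cfsg.Agent.H497.Stein.Pair
import Cfsg.Agent.PreUniqB.ModelFive

/-!
# Moved elements commuting with an involution (helper763)

* `MV x t` : some `g` commuting with `t` conjugates `x` to a different power of `x`;
* `InvC X` : involutions of `X` with centralizers of the same order are conjugate;
* `mv_of_invC` : `MV x t` from `MovedAt x` and `InvC (C(x) / ⟨x⟩)`.
-/

set_option autoImplicit false

namespace Cfsg.Agent.H763.Ccp.MV

open Subgroup Cfsg Cfsg.Agent.H497.Stein Cfsg.Agent.PreUniqB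
open Cfsg.Agent.LThreeMB (Zx XX Zx_le_center)

universe u v

/-- some `g` commuting with `t` conjugates `x` to a different power -/
def MV {G : Type u} [Group G] (x t : G) : Prop := ∃ (g : G) (j : ℕ), g * x * g⁻¹ = x ^ j ∧ x ^ j ≠ x ∧ g * t = t * g

/-- involutions with centralizers of the same order are conjugate -/
def InvC (X : Type*) [Group X] : Prop := ∀ a b : X, orderOf a = 2 → orderOf b = 2 →
  Nat.card ↥(centralizer ({a} : Set X)) = Nat.card ↥(centralizer ({b} : Set X)) → IsConj a b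

section

variable {G : Type u} [Group G]

theorem MV.conj {g x t x' t' : G} (hx : g * x * g⁻¹ = x') (ht : g * t * g⁻¹ = t') (h : MV x t) : MV x' t' := by
  subst hx
  subst ht
  obtain ⟨k, j, h1, h2, h3⟩ := h
  refine ⟨g * k * g⁻¹, j, ?_, ?_, ?_⟩
  · calc g * k * g⁻¹ * (g * x * g⁻¹) * (g * k * g⁻¹)⁻¹ = g * (k * x * k⁻¹) * g⁻¹ := by group
      _ = (g * x * g⁻¹) ^ j := by rw [h1, conj_pow]
  · intro h4
    apply h2
    rw [conj_pow] at h4
    exact mul_left_cancel (mul_right_cancel h4)
  · exact conj_comm' h3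

theorem MV.movedAt {x t : G} (h : MV x t) : MovedAt x := by
  obtain ⟨k, j, h1, h2, -⟩ := h
  exact ⟨k, j, h1, h2⟩

end

/-- an isomorphism and centralizers -/
def centIso {X : Type u} {Y : Type v} [Group X] [Group Y] (e : X ≃* Y) (a : X) :
    ↥(centralizer ({a} : Set X)) ≃ ↥(centralizer ({e a} : Set Y)) where
  toFun c := ⟨e c, mem_centralizer_singleton_iff.2 (by
    rw [← map_mul, ← map_mul, mem_centralizer_singleton_iff.1 c.2])⟩
  invFun c := ⟨e.symm c, mem_centralizer_singleton_iff.2 (by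
    apply e.injective
    rw [map_mul, map_mul, e.apply_symm_apply, mem_centralizer_singleton_iff.1 c.2])⟩
  left_inv c := Subtype.ext (e.symm_apply_apply c)
  right_inv c := Subtype.ext (e.apply_symm_apply c)

theorem InvC.congr {X : Type u} {Y : Type v} [Group X] [Group Y] (e : X ≃* Y) (h : InvC Y) : InvC X := by
  intro a b ha hb hab
  have h1 := h (e a) (e b) (by rw [MulEquiv.orderOf_eq, ha]) (by rw [MulEquiv.orderOf_eq, hb])
    (by rw [← Nat.card_congr (centIso e a), ← Nat.card_congr (centIso e b), hab])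
  obtain ⟨c, hc⟩ := isConj_iff.1 h1
  refine isConj_iff.2 ⟨e.symm c, e.injective ?_⟩
  rw [map_mul, map_mul, map_inv, e.apply_symm_apply, hc]

theorem InvC.of_one {X : Type u} [Group X] (h : ∀ a b : X, orderOf a = 2 → orderOf b = 2 → IsConj a b) : InvC X :=
  fun a b ha hb _ => h a b ha hb

/-- a map between centralizers: conjugate elements have centralizers of the same order -/
theorem card_cent_of_isConj {X : Type u} [Group X] {a b : X} (h : IsConj a b) :
    Nat.card ↥(centralizer ({a} : Set X)) = Nat.card ↥(centralizer ({b} : Set X)) := by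
  obtain ⟨c, rfl⟩ := isConj_iff.1 h
  exact Nat.card_congr (centIso (MulAut.conj c) a)

/-- two classes of involutions, with centralizers of different orders -/
theorem InvC.of_two {X : Type u} [Group X] {a b : X} (h : ∀ t : X, orderOf t = 2 → IsConj t a ∨ IsConj t b)
    (hne : Nat.card ↥(centralizer ({a} : Set X)) ≠ Nat.card ↥(centralizer ({b} : Set X))) : InvC X := by
  intro s t hs ht hst
  rcases h s hs with h1 | h1 <;> rcases h t ht with h2 | h2
  · exact h1.trans h2.symm
  · exfalso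
    apply hne
    rw [← card_cent_of_isConj h1, hst, card_cent_of_isConj h2]
  · exfalso
    apply hne
    rw [← card_cent_of_isConj h2, ← hst, card_cent_of_isConj h1]
  · exact h1.trans h2.symm

/-- centralizers in the quotient by a central subgroup of odd order -/
theorem card_cent_mk {D : Type u} [Group D] [Finite D] {N : Subgroup D} [N.Normal] (hN : N ≤ Subgroup.center D)
    (ho : Odd (Nat.card ↥N)) {a : D} (ha : orderOf a = 2) :
    Nat.card ↥(centralizer ({(QuotientGroup.mk' N a)} : Set (D ⧸ N))) * Nat.card ↥N =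
      Nat.card ↥(centralizer ({a} : Set D)) := by
  have hco : (Nat.card ↥N).Coprime 2 := Nat.coprime_two_right.2 ho
  rw [LThree.Red.centralizer_mk Nat.prime_two N hco ha]
  set C := centralizer ({a} : Set D) with hC
  have hNC : N ≤ C := hN.trans (Subgroup.center_le_centralizer _)
  let f : ↥C →* D ⧸ N := (QuotientGroup.mk' N).comp C.subtype
  have h1 : f.range = C.map (QuotientGroup.mk' N) := by
    rw [MonoidHom.range_comp, C.range_subtype]
  have h2 : f.ker = N.subgroupOf C := by
    ext c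
    rw [MonoidHom.mem_ker, Subgroup.mem_subgroupOf]
    exact QuotientGroup.eq_one_iff _
  have h3 : Nat.card ↥f.range * Nat.card ↥f.ker = Nat.card ↥C := by
    rw [← Subgroup.index_ker f, Subgroup.index_mul_card]
  rw [h1, h2, Nat.card_congr (Subgroup.subgroupOfEquivOfLe hNC).toEquiv] at h3
  exact h3

/-- **Lifting `InvC` from the quotient by a central subgroup of odd order.** -/
theorem InvC.of_quot {D : Type u} [Group D] [Finite D] {N : Subgroup D} [N.Normal] (hN : N ≤ Subgroup.center D)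
    (ho : Odd (Nat.card ↥N)) (h : InvC (D ⧸ N)) : InvC D := by
  intro a b ha hb hab
  have hco : (Nat.card ↥N).Coprime 2 := Nat.coprime_two_right.2 ho
  have h1 := h (QuotientGroup.mk' N a) (QuotientGroup.mk' N b) (LThree.Red.orderOf_mk Nat.prime_two N hco ha)
    (LThree.Red.orderOf_mk Nat.prime_two N hco hb) (by
      have h2 := card_cent_mk hN ho ha
      rw [hab, ← card_cent_mk hN ho hb] at h2
      exact Nat.eq_of_mul_eq_mul_right Nat.card_pos h2)
  obtain ⟨c, hc⟩ := isConj_iff.1 h1
  obtain ⟨c, rfl⟩ := QuotientGroup.mk'_surjective N c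
  rw [← map_mul, ← map_inv, ← map_mul] at hc
  have h3 : (c * a * c⁻¹)⁻¹ * b ∈ N := QuotientGroup.eq.1 hc
  set n := (c * a * c⁻¹)⁻¹ * b with hn
  have haa : a * a = 1 := by rw [← pow_two, ← ha, pow_orderOf_eq_one]
  have hbb : b * b = 1 := by rw [← pow_two, ← hb, pow_orderOf_eq_one]
  have hbn : b = c * a * c⁻¹ * n := by rw [hn]; group
  have hcn : (c * a * c⁻¹) * n = n * (c * a * c⁻¹) := Subgroup.mem_center_iff.1 (hN h3) _
  have h4 : n * n = 1 := by
    have h5 : (c * a * c⁻¹ * n) * (c * a * c⁻¹ * n) = 1 := by rw [← hbn, hbb]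
    calc n * n = (c * a * c⁻¹) * (c * a * c⁻¹) * (n * n) := by
          have h6 : (c * a * c⁻¹) * (c * a * c⁻¹) = 1 := by
            calc (c * a * c⁻¹) * (c * a * c⁻¹) = c * (a * a) * c⁻¹ := by group
              _ = 1 := by rw [haa]; group
          rw [h6, one_mul]
      _ = (c * a * c⁻¹) * ((c * a * c⁻¹) * n) * n := by group
      _ = (c * a * c⁻¹) * (n * (c * a * c⁻¹)) * n := by rw [hcn]
      _ = (c * a * c⁻¹ * n) * (c * a * c⁻¹ * n) := by group
      _ = 1 := h5
  have h5 : n = 1 := by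
    have h6 : (⟨n, h3⟩ : ↥N) ^ Nat.card ↥N = 1 := pow_card_eq_one'
    have h7 : n ^ Nat.card ↥N = 1 := congrArg Subtype.val h6
    obtain ⟨m, hm⟩ := ho
    rwa [hm, pow_succ, pow_mul, pow_two, h4, one_pow, one_mul] at h7
  refine isConj_iff.2 ⟨c, ?_⟩
  rw [hbn, h5, mul_one]

/-- `C_{C(x)}(t) = C(x) ∩ C(t)` -/
def cXT {G : Type u} [Group G] {x t : G} (ht : t * x = x * t) :
    ↥(centralizer ({(⟨t, mem_centralizer_singleton_iff.2 ht⟩ : ↥(centralizer ({x} : Set G)))} :
      Set ↥(centralizer ({x} : Set G)))) ≃ ↥(XTT x t) where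
  toFun c := ⟨((c : ↥(centralizer ({x} : Set G))) : G), mem_XTT.2 ⟨mem_centralizer_singleton_iff.1 c.1.2,
    congrArg Subtype.val (mem_centralizer_singleton_iff.1 c.2)⟩⟩
  invFun c := ⟨⟨c, mem_centralizer_singleton_iff.2 (mem_XTT.1 c.2).1⟩, mem_centralizer_singleton_iff.2
    (Subtype.ext (mem_XTT.1 c.2).2)⟩
  left_inv _ := rfl
  right_inv _ := rfl

/-- **`MV x t` from `MovedAt x` and `InvC (C(x) / ⟨x⟩)`.** -/
theorem mv_of_invC {G : Type u} [Group G] [Finite G] {p : ℕ} (hp : p.Prime) (hp2 : p ≠ 2) {x t : G}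
    (hx : orderOf x = p) (ht : orderOf t = 2) (htx : t * x = x * t) (hm : MovedAt x) (hI : InvC (XX x)) : MV x t := by
  obtain ⟨g, j, hg, hj⟩ := hm
  have hoj : orderOf (x ^ j) = p := by
    rw [← hg, ← hx]
    exact MulEquiv.orderOf_eq (MulAut.conj g) x
  have hZ : Odd (Nat.card ↥(Zx x)) := by
    have h1 : Nat.card ↥(Zx x) = p := by
      rw [Zx, Nat.card_zpowers, ← Subgroup.orderOf_coe]
      exact hx
    rw [h1]
    exact hp.odd_of_ne_two hp2
  have hD : InvC ↥(centralizer ({x} : Set G)) := InvC.of_quot (Zx_le_center x) hZ hI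
  have ht' : orderOf (g * t * g⁻¹) = 2 := by
    rw [← ht]
    exact MulEquiv.orderOf_eq (MulAut.conj g) t
  have htj : (g * t * g⁻¹) * (x ^ j) = x ^ j * (g * t * g⁻¹) := by
    rw [← hg]
    exact conj_comm' htx
  have ht'x : (g * t * g⁻¹) * x = x * (g * t * g⁻¹) := by
    have h1 : g * t * g⁻¹ ∈ centralizer ({x ^ j} : Set G) := mem_centralizer_singleton_iff.2 htj
    rw [MFive.centralizer_pow hp hx hoj] at h1
    exact mem_centralizer_singleton_iff.1 h1
  have hXe : XTT (g * x * g⁻¹) (g * t * g⁻¹) = XTT x (g * t * g⁻¹) := by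
    unfold XTT
    rw [hg, MFive.centralizer_pow hp hx hoj]
  have hcard : Nat.card ↥(XTT x t) = Nat.card ↥(XTT x (g * t * g⁻¹)) := by
    rw [← hXe]
    exact Nat.card_congr (conjXTT g x t).toEquiv
  obtain ⟨c, hc⟩ := isConj_iff.1 (hD ⟨g * t * g⁻¹, mem_centralizer_singleton_iff.2 ht'x⟩
    ⟨t, mem_centralizer_singleton_iff.2 htx⟩ (by rw [← Subgroup.orderOf_coe]; exact ht')
    (by rw [← Subgroup.orderOf_coe]; exact ht)
    (by rw [Nat.card_congr (cXT ht'x), Nat.card_congr (cXT htx), hcard]))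
  have hc1 : (c : G) * (g * t * g⁻¹) * (c : G)⁻¹ = t := congrArg Subtype.val hc
  have hcx : (c : G) * x = x * c := mem_centralizer_singleton_iff.1 c.2
  refine ⟨c * g, j, ?_, hj, ?_⟩
  · calc (c : G) * g * x * (c * g)⁻¹ = c * (g * x * g⁻¹) * (c : G)⁻¹ := by group
      _ = c * x ^ j * (c : G)⁻¹ := by rw [hg]
      _ = x ^ j := by
        rw [((show Commute (c : G) x from hcx).pow_right j).eq, mul_inv_cancel_right]
  · calc (c : G) * g * t = (c * (g * t * g⁻¹) * (c : G)⁻¹) * (c * g) := by group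
      _ = t * (c * g) := by rw [hc1]

end Cfsg.Agent.H763.Ccp.MV
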