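import Cfsg.Agent.H763.Ccp.PsuTame
import Cfsg.Agent.HKS.EndU

/-!
# S4114: `PSU₃(q)`, `q` odd: the elements of order `r` (the characteristic) are real (helper763)
-/

set_option autoImplicit false

namespace Cfsg.Agent.H763.Ccp.Psu

open Subgroup Cfsg Cfsg.Agent.H520 Cfsg.Agent.H763.Ccp
open Cfsg.Agent.UThreeGen.MatGroup

section Model

variable {F : Type*} [Field F] [Finite F] {σ : F →+* F} [hσ : Fact (∀ x, σ (σ x) = x)]

/-- a pair is conjugate to its inverse under the torus and the pairs -/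
theorem pair_real {q : ℕ} (hq : 1 < q) (h2 : (2 : F) ≠ 0) (hs : ∀ x, σ x = x ^ q)
    (hF : Nat.card F = q ^ 2) (x : HG σ) : ∃ (l : Fˣ) (y : HG σ), y * HKS.EndU.act l x * y⁻¹ = x⁻¹ := by
  by_cases hx : x.a = 0
  · obtain ⟨v, hv⟩ := UThreeGen.Recog.exists_norm (σ := σ) hq hs hF (c := -1) (by rw [map_neg, map_one])
    have hv0 : v ≠ 0 := by
      rintro rfl
      rw [zero_mul] at hv
      exact one_ne_zero (neg_eq_zero.1 hv.symm)
    refine ⟨Units.mk0 v hv0, 1, ?_⟩
    rw [one_mul, inv_one, mul_one]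
    have h := x.h
    rw [hx, zero_mul] at h
    ext
    · show v ^ 2 / σ v * x.a = -x.a
      rw [hx, mul_zero, neg_zero]
    · show v * σ v * x.b = σ x.b
      rw [hv]
      linear_combination -h
  · have hsx : σ x.a ≠ 0 := (map_ne_zero σ).2 hx
    obtain ⟨y, hy⟩ := UThreeGen.Recog.exists_a (σ := σ) h2 ((σ x.b - x.b) / (2 * σ (-x.a)))
    refine ⟨-1, y, ?_⟩
    have ha : (HKS.EndU.act (-1 : Fˣ) x).a = -x.a := by
      show ((-1 : Fˣ) : F) ^ 2 / σ ((-1 : Fˣ) : F) * x.a = -x.a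
      rw [Units.val_neg, Units.val_one, map_neg, map_one]
      ring
    have hb : (HKS.EndU.act (-1 : Fˣ) x).b = x.b := by
      show ((-1 : Fˣ) : F) * σ ((-1 : Fˣ) : F) * x.b = x.b
      rw [Units.val_neg, Units.val_one, map_neg, map_one]
      ring
    have hs2 : σ (2 : F) = 2 := map_ofNat σ 2
    ext
    · rw [mul_a, mul_a, ha, inv_a, inv_a]
      ring
    · rw [mul_b, mul_b, mul_a, ha, hb, inv_a, inv_b, inv_b, map_neg, map_neg]
      have hyh := y.h
      have h1 : y.a * σ x.a = -(σ x.b - x.b) / 2 := by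
        rw [hy, map_neg]
        field_simp
      have h2' : x.a * σ y.a = -(x.b - σ x.b) / 2 := by
        have h3 := congrArg σ h1
        rw [map_mul, sig, map_div₀, map_neg, map_sub, sig, hs2] at h3
        rw [mul_comm]
        exact h3
      have h3 : (2 : F) * (-(σ x.b - x.b) / 2) = -(σ x.b - x.b) := by field_simp
      have h4 : (2 : F) * (-(x.b - σ x.b) / 2) = -(x.b - σ x.b) := by field_simp
      have h5 : (2 : F) * (y.b + x.b + y.a * -σ x.a + σ y.b + (y.a + -x.a) * -σ y.a - σ x.b) = 0 := by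
        linear_combination 2 * hyh - 2 * h1 + 2 * h2' - h3 + h4
      have h6 := (mul_eq_zero.1 h5).resolve_left h2
      linear_combination h6

end Model

variable {F : Type} [Field F] [Fintype F] {q : ℕ}

theorem two_ne_zero' {r : ℕ} [hr : Fact r.Prime] [CharP F r] (hr2 : r ≠ 2) : (2 : F) ≠ 0 := by
  intro h
  have h1 : ((2 : ℕ) : F) = 0 := by exact_mod_cast h
  have h2 := (CharP.cast_eq_zero_iff F r 2).1 h1
  exact hr2 ((Nat.prime_dvd_prime_iff_eq hr.out Nat.prime_two).1 h2)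

/-- **The elements of order `r` are real.** -/
theorem real (hF : Fintype.card F = q ^ 2) (hq : q ≠ 2) {r : ℕ} [hr : Fact r.Prime] [CharP F r] (hr2 : r ≠ 2)
    [Finite (PSU 3 F q)] (u : PSU 3 F q) (hu : orderOf u = r) : IsConj u u⁻¹ := by
  classical
  have hq1 : 1 < q := LieClassical.HermBasic.two_le hF
  have hcF : Nat.card F = q ^ 2 := by rw [Nat.card_eq_fintype_card, hF]
  have h2 : (2 : F) ≠ 0 := two_ne_zero' hr2
  obtain ⟨hq3, n, hn0, hn, d, h, hd3, hdq1, hd0, hh, hcard, hrh, hlt⟩ := numbers hF hq (r := r)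
  let σ : F →+* F := (LieClassical.HermBasic.conj hF).toRingHom
  have hs : ∀ x, σ x = x ^ q := fun x => rfl
  have hσ : Fact (∀ x, σ (σ x) = x) := ⟨fun x => LieClassical.HermBasic.pow_q_pow_q hF x⟩
  obtain ⟨π, hπ, hker⟩ := HKS.EndU.exists_pi (σ := σ) hq1 h2 hs hcF
  have hinj : Function.Injective (π.comp (emb σ)) := by
    rw [injective_iff_map_eq_one]
    exact fun x hx => eq_one_of_mem_center ((hker _).1 hx)
  have hcS : Nat.card (π.comp (emb σ)).range = q ^ 3 := by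
    rw [← Nat.card_congr (MonoidHom.ofInjective hinj).toEquiv]
    exact HKS.EndU.card_HG hF h2 hs
  obtain ⟨Q, hQ⟩ := (IsPGroup.of_card (n := n * 3) (p := r) (G := (π.comp (emb σ)).range) (by
    rw [hcS, hn, pow_mul])).exists_le_sylow
  have hQe : (Q : Subgroup (PSU 3 F q)) = (π.comp (emb σ)).range := by
    symm
    apply eq_of_le_of_card_ge hQ
    rw [hcS]
    exact (card_sylow hF hq Q).le
  -- `u` in a Sylow subgroup
  obtain ⟨P, hP⟩ := (IsPGroup.of_card (n := 1) (G := zpowers u) (p := r) (by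
    rw [Nat.card_zpowers, hu, pow_one])).exists_le_sylow
  obtain ⟨g, hg⟩ := MulAction.exists_smul_eq (PSU 3 F q) P Q
  have hm : g * u * g⁻¹ ∈ (Q : Subgroup (PSU 3 F q)) := by
    rw [← hg, Sylow.smul_def]
    exact Subgroup.smul_mem_pointwise_smul u (MulAut.conj g) (P : Subgroup (PSU 3 F q)) (hP (mem_zpowers u))
  rw [hQe] at hm
  obtain ⟨x, hx⟩ := hm
  obtain ⟨l, y, hly⟩ := pair_real (σ := σ) hq1 h2 hs hcF x
  have h1 : IsConj (π (emb σ x)) (π (emb σ x))⁻¹ := by
    rw [isConj_iff]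
    refine ⟨π (emb σ y) * π (HKS.EndU.tor σ l), ?_⟩
    calc π (emb σ y) * π (HKS.EndU.tor σ l) * π (emb σ x) * (π (emb σ y) * π (HKS.EndU.tor σ l))⁻¹ =
        π (emb σ y) * (π (HKS.EndU.tor σ l) * π (emb σ x) * (π (HKS.EndU.tor σ l))⁻¹) * (π (emb σ y))⁻¹ := by group
      _ = π (emb σ y) * π (emb σ (HKS.EndU.act l x)) * (π (emb σ y))⁻¹ := by rw [HKS.EndU.tor_conj]
      _ = π (emb σ (y * HKS.EndU.act l x * y⁻¹)) := by
        rw [map_mul, map_mul, map_mul, map_mul, map_inv, map_inv]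
      _ = (π (emb σ x))⁻¹ := by rw [hly, map_inv, map_inv]
  have hx' : π (emb σ x) = g * u * g⁻¹ := hx
  rw [hx'] at h1
  have h3 : IsConj u (g * u * g⁻¹) := isConj_iff.2 ⟨g, rfl⟩
  have h4 : IsConj (g * u * g⁻¹)⁻¹ u⁻¹ := isConj_iff.2 ⟨g⁻¹, by group⟩
  exact (h3.trans h1).trans h4

end Cfsg.Agent.H763.Ccp.Psu
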