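import Cfsg.Agent.H763.Ccp.SylMain
import Cfsg.Agent.H245.RankOnePSU
import Cfsg.Agent.H394.SqPsu3
import Cfsg.Agent.H210.Loc.TI
import Cfsg.Agent.Blocks.ClassScalar

/-!
# S4114: `PSU₃(q)`: the Sylow subgroups in the defining characteristic (helper763)

* `tame` : `Tame r (PSU₃(q))`;
* `ne_even` : `q` even: every automorphism with `Cfg α` is elliptic.
-/

set_option autoImplicit false

namespace Cfsg.Agent.H763.Ccp.Psu

open Subgroup Cfsg Cfsg.Agent.H520 Cfsg.Agent.H763.Ccp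

variable {F : Type} [Field F] [Fintype F] {q : ℕ}

/-- numbers -/
theorem numbers (hF : Fintype.card F = q ^ 2) (hq : q ≠ 2) {r : ℕ} [hr : Fact r.Prime] [CharP F r] :
    3 ≤ q ∧ ∃ n, n ≠ 0 ∧ q = r ^ n ∧ ∃ d h, d ∣ 3 ∧ d ∣ q + 1 ∧ 0 < d ∧ q ^ 2 - 1 = d * h ∧
      Nat.card (PSU 3 F q) = q ^ 3 * ((q ^ 3 + 1) * h) ∧ ¬ r ∣ h ∧ h < q ^ 3 := by
  obtain ⟨N, -, hN⟩ := FiniteField.card F r
  obtain ⟨n, hn⟩ : ∃ n, q = r ^ n := by
    have h1 : q ∣ r ^ (N : ℕ) := by rw [← hN, hF]; exact dvd_pow_self q (by norm_num)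
    obtain ⟨n, -, hn⟩ := (Nat.dvd_prime_pow hr.out).1 h1
    exact ⟨n, hn⟩
  have hn0 : n ≠ 0 := by
    rintro rfl
    rw [pow_zero] at hn
    rw [hn, one_pow] at hF
    have := Fintype.one_lt_card (α := F)
    omega
  have hq2 : 2 ≤ q := by
    rw [hn]
    calc 2 ≤ r := hr.out.two_le
      _ = r ^ 1 := (pow_one r).symm
      _ ≤ r ^ n := Nat.pow_le_pow_right hr.out.pos (by omega)
  have hq3 : 3 ≤ q := by omega
  have hpq : r ∣ q := hn ▸ dvd_pow_self r hn0
  have hcard := H394.SqPsu3.card_psu3 hF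
  obtain ⟨d, hd⟩ : ∃ d, d = Nat.gcd 3 (q + 1) := ⟨_, rfl⟩
  rw [← hd] at hcard
  have hd3 : d ∣ 3 := hd ▸ Nat.gcd_dvd_left _ _
  have hdq1 : d ∣ q + 1 := hd ▸ Nat.gcd_dvd_right _ _
  have hdq : d ∣ q ^ 2 - 1 := by
    have h2 : q ^ 2 - 1 = (q + 1) * (q - 1) := by
      have := Nat.sq_sub_sq q 1
      rwa [one_pow] at this
    rw [h2]; exact hdq1.mul_right _
  obtain ⟨h, hh⟩ := hdq
  have hd0 : 0 < d := Nat.pos_of_dvd_of_pos hd3 (by norm_num)
  have hq1 : 1 ≤ q ^ 2 := Nat.one_le_pow _ _ (by omega)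
  have hph : ¬ r ∣ h := by
    intro h1
    have h2 : r ∣ q ^ 2 - 1 := by rw [hh]; exact h1.mul_left _
    have h3 : r ∣ q ^ 2 - (q ^ 2 - 1) := Nat.dvd_sub (hpq.trans (dvd_pow_self q (by norm_num))) h2
    rw [Nat.sub_sub_self hq1] at h3
    exact hr.out.one_lt.ne' (Nat.dvd_one.1 h3)
  have hhle : h ≤ q ^ 2 - 1 := by rw [hh]; exact Nat.le_mul_of_pos_left _ hd0
  have hq23 : q ^ 2 ≤ q ^ 3 := Nat.pow_le_pow_right (by omega) (by norm_num)
  refine ⟨hq3, n, hn0, hn, d, h, hd3, hdq1, hd0, hh, ?_, hph, by omega⟩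
  rw [hh] at hcard
  apply Nat.eq_of_mul_eq_mul_left hd0
  rw [hcard]; ring

/-- the order of the Sylow subgroups -/
theorem card_sylow (hF : Fintype.card F = q ^ 2) (hq : q ≠ 2) {r : ℕ} [hr : Fact r.Prime] [CharP F r]
    [Finite (PSU 3 F q)] (P : Sylow r (PSU 3 F q)) : Nat.card P = q ^ 3 := by
  obtain ⟨hq3, n, hn0, hn, d, h, hd3, hdq1, hd0, hh, hcard, hrh, hlt⟩ := numbers hF hq (r := r)
  have hpq : r ∣ q := hn ▸ dvd_pow_self r hn0
  have hh0 : h ≠ 0 := fun h0 => hrh (h0 ▸ dvd_zero r)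
  rw [P.card_eq_multiplicity, hcard]
  have h2 : ¬ r ∣ (q ^ 3 + 1) * h := by
    intro h3
    rcases (hr.out.dvd_mul).1 h3 with h4 | h4
    · have h5 : r ∣ 1 := (Nat.dvd_add_right (hpq.trans (dvd_pow_self q (by norm_num)))).1 h4
      exact hr.out.one_lt.ne' (Nat.dvd_one.1 h5)
    · exact hrh h4
  have hQ0 : q ^ 3 ≠ 0 := pow_ne_zero _ (by omega)
  have h3 : (q ^ 3 + 1) * h ≠ 0 := by positivity
  rw [Nat.factorization_mul hQ0 h3, Finsupp.add_apply, Nat.factorization_eq_zero_of_not_dvd h2, add_zero]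
  conv_rhs => rw [hn]
  rw [hn, ← pow_mul, hr.out.factorization_pow, Finsupp.single_eq_same]

/-- **`PSU₃(q)` is tame in its characteristic.** -/
theorem tame (hF : Fintype.card F = q ^ 2) (hq : q ≠ 2) {r : ℕ} [hr : Fact r.Prime] [CharP F r]
    [Finite (PSU 3 F q)] [IsSimpleGroup (PSU 3 F q)] : Tame r (PSU 3 F q) := by
  obtain ⟨hq3, n, hn0, hn, d, h, hd3, hdq1, hd0, hh, hcard, hrh, hlt⟩ := numbers hF hq (r := r)
  have hpq : r ∣ q := hn ▸ dvd_pow_self r hn0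
  refine ⟨H210.Loc.ti_psu3 hF, fun P => ?_, ?_⟩
  · have hP := card_sylow hF hq P
    apply H394.SqTI.card_sylow_eq (H210.Loc.ti_psu3 hF) P (h := h)
    · rw [hP]; exact hpq.trans (dvd_pow_self q (by norm_num))
    · rw [hP]; exact hcard
    · rw [hP]; exact hlt
  · rw [hcard]
    exact (hpq.trans (dvd_pow_self q (by norm_num))).mul_right _

/-! ### `q` even -/

/-- the involutions of a Sylow `2`-subgroup are central in it -/
theorem invol_central (hF : Fintype.card F = q ^ 2) (hq : q ≠ 2) [CharP F 2]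
    [Finite (PSU 3 F q)] [IsSimpleGroup (PSU 3 F q)] (P : Sylow 2 (PSU 3 F q)) {s : PSU 3 F q}
    (hs : s ∈ (P : Subgroup (PSU 3 F q))) (hs2 : s * s = 1) : ∀ t ∈ (P : Subgroup (PSU 3 F q)), s * t = t * s := by
  have hr : Fact (Nat.Prime 2) := ⟨Nat.prime_two⟩
  by_cases hs1 : s = 1
  · intro t _
    rw [hs1, one_mul, mul_one]
  obtain ⟨hq3, n, hn0, hn, d, h, hd3, hdq1, hd0, hh, hcard, hrh, hlt⟩ := numbers hF hq (r := 2)
  subst hn
  have hso : orderOf s = 2 := orderOf_eq_prime (by rw [pow_two]; exact hs2) hs1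
  have hfacts := (H245.RankOnePSU.facts (F := F) (n := n) (by omega) hF).2 s hso
  -- `q³` divides the order of the centraliser
  have hdvd : (2 ^ n) ^ 3 ∣ Nat.card ↥(centralizer ({s} : Set (PSU 3 F (2 ^ n)))) := by
    have h1 : (2 ^ n) ^ 3 ∣ ((2 ^ n) ^ 3 + 1) * (2 ^ n - 1) *
        Nat.card ↥(centralizer ({s} : Set (PSU 3 F (2 ^ n)))) := by
      rw [hfacts, hcard]
      exact dvd_mul_right _ _
    refine Nat.Coprime.dvd_of_dvd_mul_left ?_ h1
    have h2 : 2 ∣ 2 ^ n := dvd_pow_self 2 hn0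
    refine Nat.Coprime.pow_left 3 (Nat.Coprime.pow_left n ?_)
    rw [Nat.prime_two.coprime_iff_not_dvd, Nat.prime_two.dvd_mul]
    have h3 : 2 ∣ (2 ^ n) ^ 3 := h2.trans (dvd_pow_self _ (by norm_num))
    rintro (h4 | h4) <;> omega
  -- a Sylow subgroup centralising `s`
  rw [← pow_mul] at hdvd
  obtain ⟨S, hS⟩ := Sylow.exists_subgroup_card_pow_prime (G := ↥(centralizer ({s} : Set (PSU 3 F (2 ^ n))))) 2 hdvd
  let S' : Subgroup (PSU 3 F (2 ^ n)) := S.map (centralizer ({s} : Set (PSU 3 F (2 ^ n)))).subtype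
  have hS' : Nat.card S' = 2 ^ (n * 3) := by
    rw [← hS]
    exact (Nat.card_congr (S.equivMapOfInjective _ (subtype_injective _)).toEquiv).symm
  obtain ⟨Q, hQ⟩ := (IsPGroup.of_card hS').exists_le_sylow
  have hQe : (Q : Subgroup (PSU 3 F (2 ^ n))) = S' := by
    symm
    apply eq_of_le_of_card_ge hQ
    rw [hS']
    have h1 := card_sylow hF hq Q
    rw [← pow_mul] at h1
    exact h1.le
  have hc : ∀ t ∈ (Q : Subgroup (PSU 3 F (2 ^ n))), s * t = t * s := by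
    intro t ht
    rw [hQe] at ht
    obtain ⟨z, -, rfl⟩ := ht
    exact ((mem_centralizer_singleton_iff).1 z.2).symm
  -- `s ∈ Q`
  have hsQ : s ∈ (Q : Subgroup (PSU 3 F (2 ^ n))) := by
    refine H394.SqTI.mem_of_mem_normalizer Q (S := zpowers s) ?_ (mem_zpowers s) ?_
    · exact IsPGroup.of_card (n := 1) (by rw [Nat.card_zpowers, hso, pow_one])
    · rw [mem_normalizer_iff]
      intro t
      constructor
      · intro ht
        rw [hc t ht, mul_inv_cancel_right]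
        exact ht
      · intro ht
        have h1 := hc _ ht
        have h2 : s * t * s⁻¹ = t := by
          have h3 : s * (s * t * s⁻¹) = s * t := by rw [h1]; group
          exact mul_left_cancel h3
        rwa [h2] at ht
  have hPQ : P = Q := by
    by_contra hne
    have h1 : s ∈ (P : Subgroup (PSU 3 F (2 ^ n))) ⊓ Q := ⟨hs, hsQ⟩
    rw [(tame hF hq (r := 2)).ti P Q hne, mem_bot] at h1
    exact hs1 h1
  rw [hPQ]
  exact hc

/-- a Sylow `2`-subgroup has two involutions -/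
theorem exists_two_invol (hF : Fintype.card F = q ^ 2) (hq : q ≠ 2) [CharP F 2]
    [Finite (PSU 3 F q)] [IsSimpleGroup (PSU 3 F q)] (P : Sylow 2 (PSU 3 F q)) :
    ∃ a ∈ (P : Subgroup (PSU 3 F q)), ∃ b ∈ (P : Subgroup (PSU 3 F q)), a ≠ b ∧ a * a = 1 ∧ b * b = 1 ∧ a ≠ 1 ∧
      b ≠ 1 := by
  have hr : Fact (Nat.Prime 2) := ⟨Nat.prime_two⟩
  have ht := tame hF hq (r := 2)
  by_contra hcon
  push Not at hcon
  -- the same for all Sylow subgroups
  have hone : ∀ Q : Sylow 2 (PSU 3 F q), ∀ a ∈ (Q : Subgroup (PSU 3 F q)), ∀ b ∈ (Q : Subgroup (PSU 3 F q)),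
      a * a = 1 → b * b = 1 → a ≠ 1 → b ≠ 1 → a = b := by
    intro Q a ha b hb ha2 hb2 ha1 hb1
    obtain ⟨g, hg⟩ := MulAction.exists_smul_eq (PSU 3 F q) Q P
    have hm : ∀ x ∈ (Q : Subgroup (PSU 3 F q)), g * x * g⁻¹ ∈ (P : Subgroup (PSU 3 F q)) := by
      intro x hx
      rw [← hg, Sylow.smul_def]
      exact Subgroup.smul_mem_pointwise_smul x (MulAut.conj g) (Q : Subgroup (PSU 3 F q)) hx
    have hi : ∀ x : PSU 3 F q, x * x = 1 → (g * x * g⁻¹) * (g * x * g⁻¹) = 1 := by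
      intro x hx
      calc (g * x * g⁻¹) * (g * x * g⁻¹) = g * (x * x) * g⁻¹ := by group
        _ = 1 := by rw [hx]; group
    have hne : ∀ x : PSU 3 F q, x ≠ 1 → g * x * g⁻¹ ≠ 1 := by
      intro x hx h1
      apply hx
      calc x = g⁻¹ * (g * x * g⁻¹) * g := by group
        _ = 1 := by rw [h1]; group
    by_contra hab
    refine hne b hb1 (hcon _ (hm a ha) _ (hm b hb) ?_ (hi a ha2) (hi b hb2) (hne a ha1))
    intro h1
    apply hab
    exact mul_left_cancel (mul_right_cancel h1)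
  obtain ⟨hq3, n, hn0, hn, d, h, hd3, hdq1, hd0, hh, hcard, hrh, hlt⟩ := numbers hF hq (r := 2)
  subst hn
  have hfacts := H245.RankOnePSU.facts (F := F) (n := n) (by omega) hF
  -- an involution
  obtain ⟨z, hz⟩ := exists_prime_orderOf_dvd_card' 2 ht.dvd
  -- the number of involutions
  have hidx : (centralizer ({z} : Set (PSU 3 F (2 ^ n)))).index = ((2 ^ n) ^ 3 + 1) * (2 ^ n - 1) := by
    have h1 := (centralizer ({z} : Set (PSU 3 F (2 ^ n)))).card_mul_index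
    rw [← hfacts.2 z hz, mul_comm] at h1
    exact Nat.eq_of_mul_eq_mul_right Nat.card_pos h1
  rw [Blocks.ClassScalar.index_centralizer] at hidx
  -- the map to the Sylow subgroups
  have hex : ∀ x : {x : PSU 3 F (2 ^ n) // IsConj z x}, ∃ Q : Sylow 2 (PSU 3 F (2 ^ n)),
      (x : PSU 3 F (2 ^ n)) ∈ (Q : Subgroup (PSU 3 F (2 ^ n))) ∧ orderOf (x : PSU 3 F (2 ^ n)) = 2 := by
    rintro ⟨x, hx⟩
    have hxo : orderOf x = 2 := by
      obtain ⟨g, rfl⟩ := isConj_iff.1 hx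
      exact (orderOf_injective (MulAut.conj g).toMonoidHom (MulAut.conj g).injective z).trans hz
    obtain ⟨Q, hQ⟩ := (IsPGroup.of_card (n := 1) (G := zpowers x) (p := 2) (by
      rw [Nat.card_zpowers, hxo, pow_one])).exists_le_sylow
    exact ⟨Q, hQ (mem_zpowers x), hxo⟩
  choose f hf hfo using hex
  have hinj : Function.Injective f := by
    intro x y hxy
    apply Subtype.ext
    have h1 : ∀ w : PSU 3 F (2 ^ n), orderOf w = 2 → w * w = 1 ∧ w ≠ 1 := by
      intro w hw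
      refine ⟨?_, ?_⟩
      · have := pow_orderOf_eq_one w
        rwa [hw, pow_two] at this
      · rintro rfl
        rw [orderOf_one] at hw
        exact absurd hw (by norm_num)
    have hy := hf y
    rw [← hxy] at hy
    exact hone (f x) _ (hf x) _ hy (h1 _ (hfo x)).1 (h1 _ (hfo y)).1 (h1 _ (hfo x)).2 (h1 _ (hfo y)).2
  have hle := Nat.card_le_card_of_injective f hinj
  rw [hidx, ht.card P, card_sylow hF hq P] at hle
  have h2 : 2 ≤ 2 ^ n - 1 := by omega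
  have h3 : ((2 ^ n) ^ 3 + 1) * 2 ≤ ((2 ^ n) ^ 3 + 1) * (2 ^ n - 1) := Nat.mul_le_mul_left _ h2
  have h4 : 0 < (2 ^ n) ^ 3 := by positivity
  omega

/-- **`q` even.** -/
theorem ne_even (hF : Fintype.card F = q ^ 2) (hq : q ≠ 2) [CharP F 2] {α : MulAut (PSU 3 F q)} (hα : Cfg α) :
    EL 2 α := by
  have hr : Fact (Nat.Prime 2) := ⟨Nat.prime_two⟩
  have hfin : Finite (PSU 3 F q) := by
    have h1 := (numbers hF hq (r := 2))
    obtain ⟨hq3, n, hn0, hn, d, h, hd3, hdq1, hd0, hh, hcard, hrh, hlt⟩ := h1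
    apply Nat.finite_of_card_ne_zero
    rw [hcard]
    have hh0 : h ≠ 0 := fun h0 => hrh (h0 ▸ dvd_zero 2)
    positivity
  have := hα.sim
  refine el_two (tame hF hq) hα ?_ ?_ (exists_two_invol hF hq)
  · obtain ⟨hq3, n, hn0, hn, -⟩ := numbers hF hq (r := 2)
    subst hn
    exact (H245.RankOnePSU.facts (F := F) (n := n) (by omega) hF).1
  · intro P s hs t ht hs2 _
    exact invol_central hF hq P hs hs2 t ht

end Cfsg.Agent.H763.Ccp.Psu
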