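import Cfsg.Agent.H520.CcpCfg
import Cfsg.Agent.H394.SqTI
import Cfsg.Agent.Solvable.Glauberman

/-!
# S4114: automorphisms of groups whose Sylow `r`-subgroups are TI and which are 2-transitive on them (helper763)

* `Tame r G` : the Sylow `r`-subgroups are TI and there are `1 + |P|` of them;
* `Two` : an automorphism fixing two Sylow subgroups fixes all of them (`fix_all`);
* `exists_two` : an `r'`-automorphism fixing a Sylow subgroup fixes a second one;
-/

set_option autoImplicit false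

namespace Cfsg.Agent.H763.Ccp

open Subgroup Cfsg Cfsg.Agent.H520

universe u

variable {G : Type u} [Group G] {r : ℕ}

/-- The Sylow `r`-subgroups are TI, and `P` is regular on the other ones. -/
structure Tame (r : ℕ) (G : Type*) [Group G] : Prop where
  ti : ∀ P Q : Sylow r G, P ≠ Q → (P : Subgroup G) ⊓ Q = ⊥
  card : ∀ P : Sylow r G, Nat.card (Sylow r G) = 1 + Nat.card P
  dvd : r ∣ Nat.card G

namespace Tame

variable [Finite G] [hr : Fact r.Prime]

theorem eq_one (h : Tame r G) {P Q : Sylow r G} (hPQ : P ≠ Q) {u : G} (hu : u ∈ (P : Subgroup G)) (hf : u • Q = Q) :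
    u = 1 := by
  have h1 : u ∈ (Q : Subgroup G) :=
    H394.SqTI.mem_of_mem_normalizer Q P.isPGroup' hu (Sylow.smul_eq_iff_mem_normalizer.1 hf)
  have h2 : u ∈ (P : Subgroup G) ⊓ Q := ⟨hu, h1⟩
  rw [h.ti P Q hPQ] at h2
  exact mem_bot.1 h2

theorem smul_self {P : Sylow r G} {u : G} (hu : u ∈ (P : Subgroup G)) : u • P = P :=
  Sylow.smul_eq_iff_mem_normalizer.2 (le_normalizer hu)

theorem ne_bot (h : Tame r G) (P : Sylow r G) : (P : Subgroup G) ≠ ⊥ := by
  intro h1
  have h2 := P.dvd_card_of_dvd_card h.dvd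
  rw [h1, card_bot] at h2
  exact hr.out.one_lt.ne' (Nat.dvd_one.1 h2)

theorem inj (h : Tame r G) {P Q : Sylow r G} (hQ : Q ≠ P) {u v : G} (hu : u ∈ (P : Subgroup G))
    (hv : v ∈ (P : Subgroup G)) (e : u • Q = v • Q) : u = v := by
  have h1 : (v⁻¹ * u) • Q = Q := by rw [mul_smul, e, inv_smul_smul]
  have h2 := h.eq_one hQ.symm (mul_mem (inv_mem hv) hu) h1
  exact (inv_mul_eq_one.1 h2).symm

theorem smul_ne {P Q : Sylow r G} (hQ : Q ≠ P) {u : G} (hu : u ∈ (P : Subgroup G)) : u • Q ≠ P := by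
  intro h1
  apply hQ
  rw [← smul_self hu] at h1
  exact smul_left_cancel u h1

/-- `P` is transitive on the other Sylow subgroups -/
theorem exists_smul (h : Tame r G) {P Q R : Sylow r G} (hQ : Q ≠ P) (hR : R ≠ P) :
    ∃ u ∈ (P : Subgroup G), u • Q = R := by
  classical
  let f : ↥(P : Subgroup G) → {R : Sylow r G // R ≠ P} := fun u => ⟨(u : G) • Q, smul_ne hQ u.2⟩
  have hf : Function.Injective f := by
    intro u v e
    exact Subtype.ext (h.inj hQ u.2 v.2 (congrArg Subtype.val e))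
  have hc : Nat.card {R : Sylow r G // R ≠ P} = Nat.card ↥(P : Subgroup G) := by
    have h1 := h.card P
    have h2 : Nat.card {R : Sylow r G // R ≠ P} + 1 = Nat.card (Sylow r G) := by
      have := Fintype.ofFinite (Sylow r G)
      rw [Nat.card_eq_fintype_card, Nat.card_eq_fintype_card, Fintype.card_subtype_compl, Fintype.card_subtype_eq]
      have : 0 < Fintype.card (Sylow r G) := Fintype.card_pos
      omega
    omega
  have hb : Function.Bijective f := (Nat.bijective_iff_injective_and_card f).2 ⟨hf, hc.symm⟩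
  obtain ⟨u, hu⟩ := hb.2 ⟨R, hR⟩
  exact ⟨u, u.2, congrArg Subtype.val hu⟩

/-- 2-transitivity -/
theorem two (h : Tame r G) {P Q P' Q' : Sylow r G} (hPQ : P ≠ Q) (hPQ' : P' ≠ Q') :
    ∃ g : G, g • P = P' ∧ g • Q = Q' := by
  obtain ⟨g, hg⟩ := MulAction.exists_smul_eq G P P'
  have h1 : g • Q ≠ P' := by
    intro h2
    apply hPQ
    rw [← hg] at h2
    exact (smul_left_cancel g h2).symm
  obtain ⟨u, hu, hu'⟩ := h.exists_smul h1 hPQ'.symm
  refine ⟨u * g, ?_, ?_⟩
  · rw [mul_smul, hg, smul_self hu]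
  · rw [mul_smul, hu']

theorem exists_ne (h : Tame r G) (P : Sylow r G) : ∃ Q : Sylow r G, Q ≠ P := by
  by_contra hcon
  push Not at hcon
  have h1 : Nat.card (Sylow r G) = 1 := by
    rw [Nat.card_eq_one_iff_unique]
    exact ⟨⟨fun a b => (hcon a).trans (hcon b).symm⟩, ⟨P⟩⟩
  have h2 := h.card P
  have h3 : 0 < Nat.card P := Nat.card_pos
  omega

end Tame

/-! ### The action of the automorphisms -/

/-- the twisted equivariance -/
theorem aut_smul_smul (α : MulAut G) (g : G) (P : Sylow r G) : α • (g • P) = (α g) • (α • P) := by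
  rw [Sylow.smul_def, Sylow.smul_def, smul_smul, smul_smul]
  congr 1
  have h1 := aut_conj α g
  rw [mul_inv_eq_iff_eq_mul] at h1
  exact h1

theorem mem_aut_smul {α : MulAut G} {P : Sylow r G} {x : G} (hx : x ∈ (P : Subgroup G)) :
    α x ∈ ((α • P : Sylow r G) : Subgroup G) :=
  Subgroup.smul_mem_pointwise_smul x α (P : Subgroup G) hx

theorem mem_of_fix {α : MulAut G} {P : Sylow r G} (hα : α • P = P) {x : G} (hx : x ∈ (P : Subgroup G)) :
    α x ∈ (P : Subgroup G) := by
  have := mem_aut_smul (α := α) hx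
  rwa [hα] at this

theorem zpow_fix {α β : MulAut G} {P : Sylow r G} (hα : α • P = P) (hβ : β ∈ zpowers α) : β • P = P := by
  have h1 : zpowers α ≤ MulAction.stabilizer (MulAut G) P := by
    rw [zpowers_le]
    exact hα
  exact h1 hβ

/-- an automorphism which is not elliptic fixes a Sylow subgroup -/
theorem exists_fix [Finite G] [hr : Fact r.Prime] (h : Tame r G) {α : MulAut G} (hE : ¬ EL r α) :
    ∃ P : Sylow r G, α • P = P := by
  unfold EL at hE
  push Not at hE
  obtain ⟨R, hR, hi, hR1⟩ := hE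
  obtain ⟨P, hP⟩ := hR.exists_le_sylow
  refine ⟨P, ?_⟩
  by_contra hne
  obtain ⟨x, hx, hx1⟩ := (R.bot_or_exists_ne_one).resolve_left hR1
  have h1 : α x ∈ ((α • P : Sylow r G) : Subgroup G) := mem_aut_smul (hP hx)
  have h2 : α x ∈ (P : Subgroup G) := hP (hi x hx)
  have h3 : α x ∈ ((α • P : Sylow r G) : Subgroup G) ⊓ P := ⟨h1, h2⟩
  rw [h.ti _ _ hne, mem_bot] at h3
  exact hx1 (by rwa [map_eq_one_iff α α.injective] at h3)

/-- a coprime automorphism fixing `P` fixes a second Sylow subgroup -/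
theorem exists_second [Finite G] [hr : Fact r.Prime] (h : Tame r G) {y : MulAut G} (hy : ¬ r ∣ orderOf y)
    {P : Sylow r G} (hyP : y • P = P) : ∃ Q : Sylow r G, Q ≠ P ∧ y • Q = Q := by
  obtain ⟨Q, hQ⟩ := h.exists_ne P
  let K : Subgroup (MulAut G) := (P : Subgroup G).map (MulAut.conj : G →* MulAut G)
  let A : Subgroup (MulAut G) := zpowers y
  have hAP : ∀ a ∈ A, a • P = P := fun a ha => zpow_fix hyP ha
  have hAK : A ≤ normalizer (K : Set (MulAut G)) := by
    have h0 : ∀ a ∈ A, ∀ k ∈ K, a * k * a⁻¹ ∈ K := by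
      rintro a ha _ ⟨u, hu, rfl⟩
      exact ⟨a u, mem_of_fix (hAP a ha) hu, (aut_conj a u).symm⟩
    intro a ha
    rw [mem_normalizer_iff]
    intro k
    refine ⟨h0 a ha k, fun hk => ?_⟩
    have := h0 a⁻¹ (inv_mem ha) _ hk
    rwa [inv_inv, show a⁻¹ * (a * k * a⁻¹) * a = k by group] at this
  have hcop : (Nat.card A).Coprime (Nat.card K) := by
    have h1 : IsPGroup r K := P.isPGroup'.map _
    obtain ⟨k, hk⟩ := IsPGroup.iff_card.1 h1
    rw [hk, Nat.card_zpowers]
    exact Nat.Coprime.pow_right k ((Nat.Prime.coprime_iff_not_dvd hr.out).2 hy).symm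
  have hsolv : Group.IsSolvable A := inferInstance
  obtain ⟨k, hk, hfix⟩ := Solvable.Glauberman.exists_smul_fixed A K hAK hcop (Or.inl hsolv) Q (by
    intro a ha
    have h1 : a • Q ≠ P := by
      intro h2
      apply hQ
      rw [← hAP a ha] at h2
      exact smul_left_cancel a h2
    obtain ⟨u, hu, hu'⟩ := h.exists_smul hQ h1
    exact ⟨MulAut.conj u, ⟨u, hu, rfl⟩, hu'.symm⟩)
  obtain ⟨u, hu, rfl⟩ := hk
  refine ⟨u • Q, Tame.smul_ne hQ hu, ?_⟩
  exact hfix y (mem_zpowers y)

end Cfsg.Agent.H763.Ccp
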