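import Cfsg.Agent.H520.CcpBasic

/-!
# S4114: automorphisms of 2-transitive groups (helper763)

`fix_all` : let `G` be 2-transitive on `D` and `a` an `α`-equivariant map `D → D`, where `α` satisfies `CCP`. If `a` fixes
two points then it fixes all points.

Proof by counting: the elements `t ∈ T = {g⁻¹ α(g)}` with `t (a d) = f` are `b₀` (`d = f`) or `b₁` (`d ≠ f`) in number, and
`C × T → G` is bijective.
-/

set_option autoImplicit false

namespace Cfsg.Agent.H763.Ccp

open Finset Cfsg.Agent.H520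

theorem fix_all {G : Type*} [Group G] [Finite G] {D : Type*} [Finite D] [MulAction G D] {α : MulAut G} (hα : CCP α)
    (a : D → D) (ha : ∀ (g : G) (d : D), a (g • d) = α g • a d)
    (h2 : ∀ x y x' y' : D, x ≠ y → x' ≠ y' → ∃ g : G, g • x = x' ∧ g • y = y') {d₀ d₁ : D} (hne : d₀ ≠ d₁)
    (h0 : a d₀ = d₀) (h1 : a d₁ = d₁) : ∀ d, a d = d := by
  classical
  have := Fintype.ofFinite G
  have := Fintype.ofFinite D
  let T : Finset G := univ.filter fun t => ∃ g, t = g⁻¹ * α g
  let C : Finset G := univ.filter fun c => α c = c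
  have hT : ∀ t, t ∈ T ↔ ∃ g, t = g⁻¹ * α g := fun t => by simp [T]
  have hC : ∀ c, c ∈ C ↔ α c = c := fun c => by simp [C]
  let B : D → D → ℕ := fun d f => (T.filter fun t => t • a d = f).card
  let A : D → D → ℕ := fun f e => (C.filter fun c => c • f = e).card
  -- transitivity
  have htr : ∀ x y : D, ∃ g : G, g • x = y := by
    intro x y
    have hx : ∃ x' : D, x ≠ x' := by
      by_cases h : x = d₀
      · exact ⟨d₁, by rw [h]; exact hne⟩
      · exact ⟨d₀, h⟩
    have hy : ∃ y' : D, y ≠ y' := by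
      by_cases h : y = d₀
      · exact ⟨d₁, by rw [h]; exact hne⟩
      · exact ⟨d₀, h⟩
    obtain ⟨x', hx'⟩ := hx
    obtain ⟨y', hy'⟩ := hy
    obtain ⟨g, hg, -⟩ := h2 x x' y y' hx' hy'
    exact ⟨g, hg⟩
  -- invariance of `B`
  have hB : ∀ (g : G) (d f : D), B (g • d) (g • f) = B d f := by
    intro g d f
    refine (Finset.card_bij (fun t _ => g * t * (α g)⁻¹) ?_ ?_ ?_).symm
    · intro t ht
      rw [mem_filter, hT] at ht ⊢
      obtain ⟨⟨k, rfl⟩, ht⟩ := ht
      refine ⟨⟨k * g⁻¹, by rw [map_mul, map_inv]; group⟩, ?_⟩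
      rw [ha, ← ht]
      simp only [mul_smul, inv_smul_smul]
    · intro t _ t' _ e
      exact mul_left_cancel (mul_right_cancel e)
    · intro t ht
      rw [mem_filter, hT] at ht
      obtain ⟨⟨k, rfl⟩, ht⟩ := ht
      refine ⟨g⁻¹ * (k⁻¹ * α k) * α g, ?_, by group⟩
      rw [mem_filter, hT]
      refine ⟨⟨k * g, by rw [map_mul]; group⟩, ?_⟩
      rw [ha] at ht
      rw [mul_smul, mul_smul, ht, inv_smul_smul]
  obtain ⟨b₀, hb₀⟩ : ∃ b, b = B d₀ d₀ := ⟨_, rfl⟩
  obtain ⟨b₁, hb₁⟩ : ∃ b, b = B d₀ d₁ := ⟨_, rfl⟩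
  have hBd : ∀ d, B d d = b₀ := by
    intro d
    obtain ⟨g, rfl⟩ := htr d₀ d
    rw [hB, hb₀]
  have hBn : ∀ d f, d ≠ f → B d f = b₁ := by
    intro d f hdf
    obtain ⟨g, rfl, rfl⟩ := h2 d₀ d₁ d f hne hdf
    rw [hB, hb₁]
  -- the sums
  have hsA : ∀ e, ∑ f, A f e = C.card := by
    intro e
    rw [Finset.card_eq_sum_card_fiberwise (f := fun c : G => c⁻¹ • e) (s := C) (t := univ) (fun _ _ => mem_univ _)]
    refine sum_congr rfl fun f _ => ?_
    show (C.filter fun c => c • f = e).card = (C.filter fun c => c⁻¹ • e = f).card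
    congr 1
    ext c
    simp only [mem_filter]
    rw [inv_smul_eq_iff, eq_comm]
  have hsB : ∀ d, ∑ f, B d f = T.card := by
    intro d
    rw [Finset.card_eq_sum_card_fiberwise (f := fun t : G => t • a d) (s := T) (t := univ) (fun _ _ => mem_univ _)]
  have hprod : ∀ d e, ∑ f, B d f * A f e = (univ.filter fun x : G => x • a d = e).card := by
    intro d e
    let X : Finset (G × G) := (C ×ˢ T).filter fun z => (z.1 * z.2) • a d = e
    have hX : X.card = (univ.filter fun x : G => x • a d = e).card := by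
      refine Finset.card_bij (fun z _ => z.1 * z.2) ?_ ?_ ?_
      · intro z hz
        rw [mem_filter] at hz ⊢
        exact ⟨mem_univ _, hz.2⟩
      · rintro ⟨c, t⟩ hz ⟨c', t'⟩ hz' e1
        rw [mem_filter, mem_product, hC, hT] at hz hz'
        obtain ⟨⟨hc, ⟨g, ht⟩⟩, -⟩ := hz
        obtain ⟨⟨hc', ⟨g', ht'⟩⟩, -⟩ := hz'
        have hc : α c = c := hc
        have hc' : α c' = c' := hc'
        have ht : t = g⁻¹ * α g := ht
        have ht' : t' = g'⁻¹ * α g' := ht'
        have e1 : c * t = c' * t' := e1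
        have e2 : c * (g⁻¹ * α g) = c' * (g'⁻¹ * α g') := by rw [← ht, ← ht']; exact e1
        have h3 : c = c' := hα.uniq hc hc' e2
        subst h3
        have h4 : t = t' := mul_left_cancel e1
        rw [h4]
      · intro x hx
        obtain ⟨c, g, hc, e1⟩ := hα x
        refine ⟨(c, g⁻¹ * α g), ?_, e1.symm⟩
        rw [mem_filter, mem_product, hC, hT]
        refine ⟨⟨hc, ⟨g, rfl⟩⟩, ?_⟩
        rw [mem_filter] at hx
        show (c * (g⁻¹ * α g)) • a d = e
        rw [← e1]
        exact hx.2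
    rw [← hX, Finset.card_eq_sum_card_fiberwise (f := fun z : G × G => z.2 • a d) (s := X) (t := univ)
      (fun _ _ => mem_univ _)]
    refine sum_congr rfl fun f _ => ?_
    have h3 : (X.filter fun z => z.2 • a d = f) = (C.filter fun c => c • f = e) ×ˢ (T.filter fun t => t • a d = f) := by
      ext ⟨c, t⟩
      simp only [X, mem_filter, mem_product]
      constructor
      · rintro ⟨⟨⟨hc, ht⟩, he⟩, hf⟩
        refine ⟨⟨hc, ?_⟩, ht, hf⟩
        rw [← hf, ← mul_smul, he]
      · rintro ⟨⟨hc, he⟩, ht, hf⟩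
        refine ⟨⟨⟨hc, ht⟩, ?_⟩, hf⟩
        rw [mul_smul, hf, he]
    rw [h3, card_product, mul_comm]
  have hS : ∀ d e e', (univ.filter fun x : G => x • a d = e).card = (univ.filter fun x : G => x • a d = e').card := by
    intro d e e'
    obtain ⟨g, rfl⟩ := htr e e'
    refine Finset.card_bij (fun x _ => g * x) ?_ ?_ ?_
    · intro x hx
      rw [mem_filter] at hx ⊢
      exact ⟨mem_univ _, by rw [mul_smul, hx.2]⟩
    · intro x _ x' _ e1
      exact mul_left_cancel e1
    · intro x hx
      rw [mem_filter] at hx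
      refine ⟨g⁻¹ * x, ?_, by group⟩
      rw [mem_filter]
      exact ⟨mem_univ _, by rw [mul_smul, hx.2, inv_smul_smul]⟩
  -- the sum over `f`
  have hsum : ∀ d e, ((∑ f, B d f * A f e : ℕ) : ℤ) = b₁ * (C.card : ℤ) + ((b₀ : ℤ) - b₁) * A d e := by
    intro d e
    rw [← hsA e]
    push_cast
    rw [mul_sum]
    have h3 : ∀ f, ((B d f : ℕ) : ℤ) * (A f e : ℤ) = b₁ * (A f e : ℤ) + (if f = d then ((b₀ : ℤ) - b₁) * A d e else 0) := by
      intro f
      split_ifs with hf
      · subst hf
        rw [hBd]; ring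
      · rw [hBn d f (Ne.symm hf)]; ring
    rw [sum_congr rfl fun f _ => h3 f, sum_add_distrib, sum_ite_eq' univ d, if_pos (mem_univ d)]
  by_cases hb : b₀ = b₁
  · exfalso
    -- the number of fixed points is one
    have h3 : T.card = Fintype.card D * b₀ := by
      rw [← hsB d₀]
      have h4 : ∀ f, B d₀ f = b₀ := by
        intro f
        by_cases hf : d₀ = f
        · rw [← hf, hBd]
        · rw [hBn _ _ hf, hb]
      rw [sum_congr rfl fun f _ => h4 f, sum_const, card_univ, smul_eq_mul]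
    have h4 : ∑ d, B d d = Fintype.card D * b₀ := by
      rw [sum_congr rfl fun d _ => hBd d, sum_const, card_univ, smul_eq_mul]
    let Fx : Finset D := univ.filter fun d => a d = d
    have h5 : ∑ d, B d d = T.card * Fx.card := by
      have h6 : ∀ d, B d d = ∑ t ∈ T, if t • a d = d then 1 else 0 := fun d => Finset.card_filter _ _
      rw [sum_congr rfl fun d _ => h6 d, sum_comm]
      rw [← smul_eq_mul, ← sum_const]
      refine sum_congr rfl fun t ht => ?_
      rw [← Finset.card_filter]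
      obtain ⟨k, rfl⟩ := (hT t).1 ht
      refine Finset.card_bij (fun d _ => k • d) ?_ ?_ ?_
      · intro d hd
        rw [mem_filter] at hd ⊢
        refine ⟨mem_univ _, ?_⟩
        have h7 := hd.2
        rw [mul_smul, inv_smul_eq_iff] at h7
        rw [ha, h7]
      · intro d _ d' _ e
        exact smul_left_cancel k e
      · intro d hd
        rw [mem_filter] at hd
        refine ⟨k⁻¹ • d, ?_, by rw [smul_inv_smul]⟩
        rw [mem_filter]
        refine ⟨mem_univ _, ?_⟩
        rw [ha, hd.2, mul_smul, map_inv, smul_inv_smul]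
    have hTpos : 0 < T.card := card_pos.2 ⟨1, (hT 1).2 ⟨1, by simp⟩⟩
    have h6 : Fx.card = 1 := by
      have h7 : T.card * Fx.card = T.card * 1 := by rw [← h5, h4, ← h3, mul_one]
      exact Nat.eq_of_mul_eq_mul_left hTpos h7
    have h7 : 1 < Fx.card := by
      rw [Finset.one_lt_card]
      exact ⟨d₀, by simp [Fx, h0], d₁, by simp [Fx, h1], hne⟩
    omega
  · intro e
    have h3 : A d₀ e = A d₀ d₀ := by
      have h4 : ((∑ f, B d₀ f * A f e : ℕ) : ℤ) = ((∑ f, B d₀ f * A f d₀ : ℕ) : ℤ) := by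
        rw [hprod, hprod, hS d₀ e d₀]
      rw [hsum, hsum] at h4
      have h5 : ((b₀ : ℤ) - b₁) * ((A d₀ e : ℤ) - A d₀ d₀) = 0 := by linarith
      rcases mul_eq_zero.1 h5 with h6 | h6
      · exfalso
        apply hb
        have : (b₀ : ℤ) = b₁ := by linarith
        exact_mod_cast this
      · have : (A d₀ e : ℤ) = A d₀ d₀ := by linarith
        exact_mod_cast this
    have h4 : 0 < A d₀ d₀ := card_pos.2 ⟨1, by rw [mem_filter, hC]; exact ⟨map_one α, one_smul _ _⟩⟩
    rw [← h3] at h4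
    obtain ⟨c, hc⟩ := card_pos.1 h4
    rw [mem_filter, hC] at hc
    rw [← hc.2, ha, hc.1, h0]

end Cfsg.Agent.H763.Ccp
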