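import Cfsg.Agent.H763.Ccp.SylTwo
import Cfsg.Agent.H763.Ccp.TwoFix

/-!
# S4114: elliptic automorphisms of the groups with TI Sylow `r`-subgroups, 2-transitive on them (helper763)

* `uniq_fix` : `α` fixes at most one Sylow subgroup;
* `el_two` : `r = 2`: `α` is elliptic, if the involutions are conjugate and the involutions of a Sylow subgroup commute (and
  there are at least two of them);
* `el_odd` : `r` odd: `α` is elliptic, if elements of order `r` are real and the centraliser of an outer automorphism of order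
  `r` has no nontrivial solvable normal subgroup.
-/

set_option autoImplicit false

namespace Cfsg.Agent.H763.Ccp

open Subgroup Cfsg Cfsg.Agent.H520

universe u

variable {G : Type u} [Group G] {r : ℕ}

/-- **`α` fixes at most one Sylow subgroup.** -/
theorem uniq_fix [Finite G] [hr : Fact r.Prime] (h : Tame r G) {α : MulAut G} (hα : Cfg α) {P Q : Sylow r G}
    (hP : α • P = P) (hQ : α • Q = Q) : Q = P := by
  by_contra hne
  have hall := fix_all hα.ccp (fun R : Sylow r G => α • R) (fun g d => aut_smul_smul α g d)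
    (fun x y x' y' hxy hxy' => h.two hxy hxy') (d₀ := P) (d₁ := Q) (Ne.symm hne) hP hQ
  -- the kernel
  let K : Subgroup G := (MulAction.toPermHom G (Sylow r G)).ker
  have hK : ∀ g : G, g ∈ K ↔ ∀ R : Sylow r G, g • R = R := by
    intro g
    rw [MonoidHom.mem_ker, Equiv.ext_iff]
    rfl
  have := hα.sim
  rcases Subgroup.Normal.eq_bot_or_eq_top (inferInstance : K.Normal) with h1 | h1
  · apply hα.ne
    ext g
    have h2 : g⁻¹ * α g ∈ K := by
      rw [hK]
      intro R
      have h3 : α • (g • R) = g • R := hall (g • R)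
      rw [aut_smul_smul] at h3
      have h4 : α • R = R := hall R
      rw [h4] at h3
      rw [mul_smul, h3, inv_smul_smul]
    rw [h1, mem_bot] at h2
    exact (inv_mul_eq_one.1 h2).symm
  · obtain ⟨g, hg⟩ := MulAction.exists_smul_eq G P Q
    have h2 : g ∈ K := by rw [h1]; trivial
    rw [hK] at h2
    exact hne (by rw [← hg, h2])

/-- the automorphism is not of order prime to `r` -/
theorem dvd_order [Finite G] [hr : Fact r.Prime] (h : Tame r G) {α : MulAut G} (hα : Cfg α) {P : Sylow r G}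
    (hP : α • P = P) : r ∣ orderOf α := by
  by_contra hcon
  obtain ⟨Q, hQ, hQ'⟩ := exists_second h hcon hP
  exact hQ (uniq_fix h hα hP hQ')

/-- a Sylow subgroup fixed by `y ∈ ⟨α⟩` of order prime to `r` contains fixed elements of `y` -/
theorem exists_fixed_elt [Finite G] [hr : Fact r.Prime] (h : Tame r G) {α : MulAut G} (hα : Cfg α) {P : Sylow r G}
    (hP : α • P = P) {y : MulAut G} (hy : y ∈ zpowers α) {Q : Sylow r G} (hQ : Q ≠ P) (hyQ : y • Q = Q) :
    ∃ u ∈ (P : Subgroup G), u ≠ 1 ∧ y u = u := by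
  have hyP : y • P = P := zpow_fix hP hy
  have hcomm : y * α = α * y := (Cfg.comm_zpowers hy (mem_zpowers α)).eq
  have h1 : α • Q ≠ Q := fun h2 => hQ (uniq_fix h hα hP h2)
  have h2 : y • (α • Q) = α • Q := by rw [smul_smul, hcomm, ← smul_smul, hyQ]
  have h3 : α • Q ≠ P := by
    intro h4
    apply hQ
    rw [← hP] at h4
    exact smul_left_cancel α h4
  obtain ⟨u, hu, hu'⟩ := h.exists_smul hQ h3
  refine ⟨u, hu, ?_, ?_⟩
  · rintro rfl
    rw [one_smul] at hu'
    exact h1 hu'.symm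
  · exact fix_of_smul h hyP hyQ h2 hQ hu hu'

/-- **The case `r = 2`.** -/
theorem el_two [Finite G] (h : Tame 2 G) {α : MulAut G} (hα : Cfg α)
    (hinv : ∀ s t : G, orderOf s = 2 → orderOf t = 2 → IsConj s t)
    (hcomm : ∀ P : Sylow 2 G, ∀ s ∈ (P : Subgroup G), ∀ t ∈ (P : Subgroup G), s * s = 1 → t * t = 1 → s * t = t * s)
    (h2 : ∀ P : Sylow 2 G, ∃ a ∈ (P : Subgroup G), ∃ b ∈ (P : Subgroup G), a ≠ b ∧ a * a = 1 ∧ b * b = 1 ∧ a ≠ 1 ∧
      b ≠ 1) : EL 2 α := by
  have hp : Fact (Nat.Prime 2) := ⟨Nat.prime_two⟩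
  by_contra hE
  obtain ⟨P, hP⟩ := exists_fix h hE
  have huniq : ∀ Q : Sylow 2 G, α • Q = Q → Q = P := fun Q hQ => uniq_fix h hα hP hQ
  obtain ⟨x, y, hx, hy, hα', hxo, hyo, -⟩ := exists_ppart α 2
  have hxy : Commute x y := Cfg.comm_zpowers hx hy
  have hy1 : y ≠ 1 := by
    rintro rfl
    rw [one_mul] at hα'
    obtain ⟨k, hk⟩ := hxo
    exact hα.not_primepow h.dvd k (by rw [hα']; exact hk)
  have hyP : y • P = P := zpow_fix hP hy
  have hxP : x • P = P := zpow_fix hP hx
  obtain ⟨Q, hQ, hyQ⟩ := exists_second h hyo hyP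
  obtain ⟨u, hu, hu1, hyu⟩ := exists_fixed_elt h hα hP hy hQ hyQ
  -- an involution fixed by `y`
  obtain ⟨t, ht, ht1, ht2, hyt⟩ : ∃ t ∈ (P : Subgroup G), t ≠ 1 ∧ t * t = 1 ∧ y t = t := by
    obtain ⟨k, hk⟩ := IsPGroup.iff_orderOf.1 P.isPGroup' ⟨u, hu⟩
    have hk' : orderOf u = 2 ^ k := by
      rw [← hk]
      exact orderOf_injective (P : Subgroup G).subtype (subtype_injective _) ⟨u, hu⟩
    have hk0 : k ≠ 0 := by
      rintro rfl
      rw [pow_zero, orderOf_eq_one_iff] at hk'
      exact hu1 hk'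
    have h3 : orderOf (u ^ 2 ^ (k - 1)) = 2 := by
      have h4 : 2 ^ k / 2 ^ (k - 1) = 2 := by
        obtain ⟨j, rfl⟩ : ∃ j, k = j + 1 := ⟨k - 1, by omega⟩
        rw [Nat.add_sub_cancel, pow_succ, Nat.mul_div_cancel_left _ (by positivity)]
      rw [orderOf_pow_of_dvd (by positivity) (by rw [hk']; exact pow_dvd_pow 2 (Nat.sub_le k 1)), hk', h4]
    refine ⟨u ^ 2 ^ (k - 1), pow_mem hu _, ?_, ?_, by rw [map_pow, hyu]⟩
    · intro h4
      rw [h4, orderOf_one] at h3
      exact absurd h3 (by norm_num)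
    · have h5 := pow_orderOf_eq_one (u ^ 2 ^ (k - 1))
      rw [h3, pow_two] at h5
      exact h5
  -- the subgroup of the involutions of `P` fixed by `y`
  let Z : Subgroup G :=
    { carrier := {s | s ∈ (P : Subgroup G) ∧ s * s = 1 ∧ y s = s}
      one_mem' := ⟨one_mem _, one_mul 1, map_one y⟩
      mul_mem' := by
        rintro s s' ⟨hs, hs2, hys⟩ ⟨hs', hs2', hys'⟩
        refine ⟨mul_mem hs hs', ?_, by rw [map_mul, hys, hys']⟩
        have h3 := hcomm P s hs s' hs' hs2 hs2'
        calc s * s' * (s * s') = s * (s' * s) * s' := by group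
          _ = (s * s) * (s' * s') := by rw [← h3]; group
          _ = 1 := by rw [hs2, hs2', one_mul]
      inv_mem' := by
        rintro s ⟨hs, hs2, hys⟩
        rw [inv_eq_of_mul_eq_one_right hs2]
        exact ⟨hs, hs2, hys⟩ }
  have hxZ : ∀ s ∈ Z, x s ∈ Z := by
    rintro s ⟨hs, hs2, hys⟩
    refine ⟨mem_of_fix hxP hs, by rw [← map_mul, hs2, map_one], ?_⟩
    calc y (x s) = (y * x) s := rfl
      _ = (x * y) s := by rw [hxy.eq]
      _ = x (y s) := rfl
      _ = x s := by rw [hys]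
  have hZ2 : 2 ∣ Nat.card Z := by
    have h3 : (⟨t, ht, ht2, hyt⟩ : Z) ≠ 1 := fun h4 => ht1 (congrArg Subtype.val h4)
    have h4 : (⟨t, ht, ht2, hyt⟩ : Z) ^ 2 = 1 := by
      rw [pow_two]
      exact Subtype.ext ht2
    rw [← orderOf_eq_prime h4 h3]
    exact orderOf_dvd_natCard _
  obtain ⟨t₁, ht₁, ht₁1, hxt₁⟩ : ∃ t₁ ∈ Z, t₁ ≠ 1 ∧ x t₁ = t₁ := by
    have h3 := dvd_fixA_of_relem (r := 2) hZ2 (z := resA x Z hxZ) (by
      obtain ⟨k, hk⟩ := hxo
      obtain ⟨j, -, hj⟩ := (Nat.dvd_prime_pow Nat.prime_two).1 (hk ▸ orderOf_resA_dvd x Z hxZ)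
      exact ⟨j, hj⟩)
    have h4 : fixA (resA x Z hxZ) ≠ ⊥ := by
      intro h5
      rw [h5, card_bot] at h3
      exact absurd h3 (by norm_num)
    obtain ⟨z, hz, hz1⟩ := ((fixA (resA x Z hxZ)).bot_or_exists_ne_one).resolve_left h4
    exact ⟨z.1, z.2, fun h5 => hz1 (Subtype.ext h5), congrArg Subtype.val hz⟩
  have hαt : α t₁ = t₁ := by
    rw [hα', MulAut.mul_apply, hxt₁, ht₁.2.2]
  have hot : ∀ s : G, s * s = 1 → s ≠ 1 → orderOf s = 2 := fun s hs hs1 =>
    orderOf_eq_prime (by rw [pow_two]; exact hs) hs1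
  -- `α` centralises all involutions of `P`
  have hfix : ∀ s ∈ (P : Subgroup G), s * s = 1 → α s = s := by
    intro s hs hs2
    by_contra hne
    have hαs : α s ∈ (P : Subgroup G) := mem_of_fix hP hs
    have hαs2 : α s * α s = 1 := by rw [← map_mul, hs2, map_one]
    have h3 : s⁻¹ * α s ≠ 1 := fun h4 => hne (inv_mul_eq_one.1 h4).symm
    have h4 : (s⁻¹ * α s) * (s⁻¹ * α s) = 1 := by
      rw [inv_eq_of_mul_eq_one_right hs2]
      have h5 := hcomm P s hs (α s) hαs hs2 hαs2
      calc s * α s * (s * α s) = s * (α s * s) * α s := by group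
        _ = (s * s) * (α s * α s) := by rw [← h5]; group
        _ = 1 := by rw [hs2, hαs2, one_mul]
    obtain ⟨g, hg⟩ := isConj_iff.1 (hinv _ _ (hot _ h4 h3) (hot t₁ ht₁.2.1 ht₁1))
    exact ht₁1 (hα.ccp.not_conj hαt hg)
  have hyfix : ∀ s : G, α s = s → y s = s := by
    intro s hs
    have h3 : zpowers α ≤ MulAction.stabilizer (MulAut G) s := by
      rw [zpowers_le]; exact hs
    exact h3 hy
  obtain ⟨a, ha, b, hb, hab, ha2, hb2, ha1, hb1⟩ := h2 P
  exact no_two_invol h hα hy hy1 hP huniq hQ hyQ ha hb hab ha2 hb2 ha1 hb1 (hyfix a (hfix a ha ha2))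
    (hyfix b (hfix b hb hb2))

/-- **The case `r` odd.** -/
theorem el_odd [Finite G] [hr : Fact r.Prime] (hr2 : r ≠ 2) (h : Tame r G) {α : MulAut G} (hα : Cfg α)
    (hreal : ∀ u : G, orderOf u = r → IsConj u u⁻¹)
    (hout : ∀ x : MulAut G, orderOf x = r → (∀ u : G, x ≠ MulAut.conj u) →
      ∀ N : Subgroup ↥(fixA x), N.Normal → Group.IsSolvable N → N = ⊥) : EL r α := by
  by_contra hE
  obtain ⟨P, hP⟩ := exists_fix h hE
  obtain ⟨x, hx, hxo⟩ := exists_prime_order hr.out (dvd_order h hα hP)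
  by_cases hin : ∃ u : G, x = MulAut.conj u
  · obtain ⟨u, rfl⟩ := hin
    have hou : orderOf u = r := by
      have h1 : Function.Injective (MulAut.conj : G →* MulAut G) := fun a b hab => conj_inj hα.center_bot hab
      rw [← hxo]
      exact (orderOf_injective _ h1 u).symm
    obtain ⟨g, hg⟩ := isConj_iff.1 (hreal u hou)
    have h1 := hα.sq_eq_one_of_real hx hg
    have h2 : r ∣ 2 := by rw [← hou]; exact orderOf_dvd_of_pow_eq_one h1
    exact hr2 ((Nat.prime_dvd_prime_iff_eq hr.out Nat.prime_two).1 h2)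
  · push Not at hin
    have hx1 : x ≠ 1 := by
      rintro rfl
      rw [orderOf_one] at hxo
      exact hr.out.one_lt.ne hxo
    have hMi : ∀ m ∈ fixA x, α m ∈ fixA x := Cfg.fixA_inv (Cfg.comm_zpowers hx (mem_zpowers α))
    have hno := hout x hxo hin
    have hfix : ∀ m ∈ fixA x, α m = m :=
      hα.centralizes' (Cfg.fixA_ne_top hx1) hMi le_rfl hMi hno
    -- `C_G(x)` fixes `P`
    have hMP : ∀ m ∈ fixA x, m • P = P := by
      intro m hm
      refine uniq_fix h hα hP ?_
      rw [aut_smul_smul, hP, hfix m hm]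
    -- a nontrivial `r`-element
    have h1 : r ∣ Nat.card (fixA x) := dvd_fixA_of_relem h.dvd ⟨1, by rw [hxo, pow_one]⟩
    obtain ⟨m, hm⟩ := exists_prime_orderOf_dvd_card' r h1
    let N : Subgroup ↥(fixA x) := (P : Subgroup G).subgroupOf (fixA x)
    have hNn : N.Normal := by
      constructor
      intro n hn g
      rw [mem_subgroupOf] at hn ⊢
      have h2 : (g : G) ∈ normalizer ((P : Subgroup G) : Set G) :=
        Sylow.smul_eq_iff_mem_normalizer.1 (hMP g g.2)
      exact (mem_normalizer_iff.1 h2 _).1 hn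
    have hNs : Group.IsSolvable N := by
      have h2 : IsPGroup r N := P.isPGroup'.comap_of_injective (fixA x).subtype (subtype_injective _)
      have h3 : Group.IsNilpotent N := h2.isNilpotent
      infer_instance
    have hNb := hno N hNn hNs
    have hmN : m ∈ N := by
      rw [mem_subgroupOf]
      refine H394.SqTI.mem_of_mem_normalizer P (S := zpowers (m : G)) ?_ (mem_zpowers _)
        (Sylow.smul_eq_iff_mem_normalizer.1 (hMP m m.2))
      refine IsPGroup.of_card (n := 1) ?_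
      rw [Nat.card_zpowers, pow_one, ← hm]
      exact orderOf_injective (fixA x).subtype (subtype_injective _) m
    rw [hNb, mem_bot] at hmN
    rw [hmN, orderOf_one] at hm
    exact hr.out.one_lt.ne hm

end Cfsg.Agent.H763.Ccp
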