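import Cfsg.Agent.H763.Ccp.Syl

/-!
# S4114: two involutions in a Sylow subgroup fixed by `y ∈ ⟨α⟩` (helper763)

* `cM_conj` : `[M, α]` is normalised by `M`;
* `comm_lt` : `[K, K] < K` for a nontrivial solvable subgroup;
* `no_two_invol` : for `1 ≠ y ∈ ⟨α⟩` fixing two Sylow subgroups there are no two involutions in `C_P(y)`, if `α` fixes the
  Sylow subgroup `P` only.
-/

set_option autoImplicit false

namespace Cfsg.Agent.H763.Ccp

open Subgroup Cfsg Cfsg.Agent.H520
open scoped commutatorElement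

universe u

variable {G : Type u} [Group G] {r : ℕ}

/-- `[M, α]` is normalised by `M` -/
theorem cM_conj [Finite G] (α : MulAut G) {M : Subgroup G} (hM : ∀ m ∈ M, α m ∈ M) {m k : G} (hm : m ∈ M)
    (hk : k ∈ cM α M) : m * k * m⁻¹ ∈ cM α M := by
  rw [← map_cG_resA α M hM] at hk ⊢
  obtain ⟨z, hz, rfl⟩ := hk
  have hn : (cG (resA α M hM)).Normal := cG_normal _
  exact ⟨⟨m, hm⟩ * z * ⟨m, hm⟩⁻¹, hn.conj_mem z hz _, rfl⟩

/-- `[K, K] < K` -/
theorem comm_lt {K : Subgroup G} (hs : Group.IsSolvable K) (hK : K ≠ ⊥) : ⁅K, K⁆ < K := by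
  have : Nontrivial K := (Subgroup.nontrivial_iff_ne_bot K).2 hK
  have h1 : (⁅(⊤ : Subgroup K), ⊤⁆ : Subgroup K) < ⊤ := Group.IsSolvable.commutator_lt_top_of_nontrivial K
  have h2 : (⁅(⊤ : Subgroup K), ⊤⁆ : Subgroup K).map K.subtype = ⁅K, K⁆ := by
    rw [map_commutator, ← MonoidHom.range_eq_map, K.range_subtype]
  rw [← h2]
  refine lt_of_le_of_ne (map_subtype_le _) fun h3 => ?_
  apply h1.ne
  rw [eq_top_iff]
  intro x _
  have h4 : (x : G) ∈ (⁅(⊤ : Subgroup K), ⊤⁆ : Subgroup K).map K.subtype := by rw [h3]; exact x.2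
  obtain ⟨z, hz, e⟩ := h4
  have : z = x := Subtype.ext e
  rwa [← this]

/-- elements of `Q` moving a fixed Sylow subgroup to a fixed Sylow subgroup are fixed -/
theorem fix_of_smul [Finite G] [hr : Fact r.Prime] (h : Tame r G) {y : MulAut G} {Q R R' : Sylow r G} (hQ : y • Q = Q)
    (hR : y • R = R) (hR' : y • R' = R') (hRQ : R ≠ Q) {u : G} (hu : u ∈ (Q : Subgroup G)) (e : u • R = R') :
    y u = u := by
  apply h.inj hRQ (mem_of_fix hQ hu) hu
  rw [e, ← hR', ← e, aut_smul_smul, hR]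

/-- **No two involutions** -/
theorem no_two_invol [Finite G] [hr : Fact r.Prime] (h : Tame r G) {α : MulAut G} (hα : Cfg α) {y : MulAut G}
    (hy : y ∈ zpowers α) (hy1 : y ≠ 1) {P Q : Sylow r G} (hP : α • P = P) (huniq : ∀ Q : Sylow r G, α • Q = Q → Q = P)
    (hQ : Q ≠ P) (hyQ : y • Q = Q) {a b : G} (ha : a ∈ (P : Subgroup G)) (hb : b ∈ (P : Subgroup G)) (hab : a ≠ b)
    (ha2 : a * a = 1) (hb2 : b * b = 1) (ha1 : a ≠ 1) (hb1 : b ≠ 1) (hya : y a = a) (hyb : y b = b) : False := by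
  have hyP : y • P = P := zpow_fix hP hy
  have hcomm : Commute y α := Cfg.comm_zpowers hy (mem_zpowers α)
  have hMt : fixA y ≠ ⊤ := Cfg.fixA_ne_top hy1
  have hMi : ∀ m ∈ fixA y, α m ∈ fixA y := Cfg.fixA_inv hcomm
  have hsol := hα.min _ hMt hMi
  -- the fixed Sylow subgroups are permuted by the fixed elements
  have hfix : ∀ m ∈ fixA y, ∀ R : Sylow r G, y • R = R → y • (m • R) = m • R := by
    intro m hm R hR
    rw [aut_smul_smul, hR, mem_fixA.1 hm]
  -- an element of `M` moving `P` to `Q`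
  obtain ⟨m, hm, hmP⟩ : ∃ m ∈ fixA y, m • P = Q := by
    have h1 : a • Q ≠ Q := fun h2 => ha1 (h.eq_one hQ.symm ha h2)
    obtain ⟨w, hw, hw'⟩ := h.exists_smul (P := Q) (Q := P) (R := a • Q) hQ.symm h1
    have haQ : y • (a • Q) = a • Q := hfix a hya Q hyQ
    have h2 : y w = w := fix_of_smul h hyQ hyP haQ hQ.symm hw hw'
    refine ⟨a⁻¹ * w, mul_mem (inv_mem (mem_fixA.2 hya)) (mem_fixA.2 h2), ?_⟩
    rw [mul_smul, hw', inv_smul_smul]
  -- involutions of `P`
  have hinv : ∀ c : G, c ∈ (P : Subgroup G) → c * c = 1 → c ≠ 1 → ∀ X : Sylow r G, c • X = X → X = P := by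
    intro c hc _ hc1 X hX
    by_contra hne
    exact hc1 (h.eq_one (Ne.symm hne) hc hX)
  -- solvable normal subgroups act trivially
  have key : ∀ n : ℕ, ∀ K : Subgroup G, Nat.card K = n → Group.IsSolvable K → K ≤ fixA y →
      (∀ m ∈ fixA y, ∀ k ∈ K, m * k * m⁻¹ ∈ K) → ∀ k ∈ K, k • P = P := by
    intro n
    induction n using Nat.strong_induction_on with
    | _ n ih =>
    intro K hn hK hKM hKn k hk
    by_cases hKb : K = ⊥
    · rw [hKb, mem_bot] at hk
      rw [hk, one_smul]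
    have hlt : ⁅K, K⁆ < K := comm_lt hK hKb
    have hK' : Group.IsSolvable (⁅K, K⁆ : Subgroup G) :=
      Group.isSolvable_of_isSolvable_injective (f := inclusion hlt.le) (inclusion_injective hlt.le)
    have hK'n : ∀ m ∈ fixA y, ∀ k ∈ (⁅K, K⁆ : Subgroup G), m * k * m⁻¹ ∈ (⁅K, K⁆ : Subgroup G) := by
      intro m hm k hk
      have h1 : (⁅K, K⁆ : Subgroup G) ≤ (⁅K, K⁆ : Subgroup G).comap (MulAut.conj m).toMonoidHom := by
        rw [commutator_le]
        intro g₁ hg₁ g₂ hg₂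
        show m * ⁅g₁, g₂⁆ * m⁻¹ ∈ (⁅K, K⁆ : Subgroup G)
        have h2 : m * ⁅g₁, g₂⁆ * m⁻¹ = ⁅m * g₁ * m⁻¹, m * g₂ * m⁻¹⁆ := by
          rw [commutatorElement_def, commutatorElement_def]; group
        rw [h2]
        exact commutator_mem_commutator (hKn m hm _ hg₁) (hKn m hm _ hg₂)
      exact h1 hk
    have ih' := ih (Nat.card (⁅K, K⁆ : Subgroup G)) (by
      rw [← hn]
      exact lt_of_not_ge fun h3 => hlt.ne (eq_of_le_of_card_ge hlt.le h3)) (⁅K, K⁆ : Subgroup G) rfl hK' (hlt.le.trans hKM) hK'n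
    -- commutators fix the fixed Sylow subgroups `m • P`
    have htr : ∀ x ∈ (⁅K, K⁆ : Subgroup G), ∀ g ∈ fixA y, x • (g • P) = g • P := by
      intro x hx g hg
      have h1 := ih' (g⁻¹ * x * g) (by
        have := hK'n g⁻¹ (inv_mem hg) x hx
        rwa [inv_inv] at this)
      calc x • (g • P) = g • ((g⁻¹ * x * g) • P) := by rw [← mul_smul, ← mul_smul]; congr 1; group
        _ = g • P := by rw [h1]
    -- the element `c = k (a k a⁻¹)`
    have hc : ∀ a : G, a ∈ (P : Subgroup G) → a * a = 1 → a ≠ 1 → y a = a → a • (k • P) = k⁻¹ • P := by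
      intro a ha ha2 ha1 hya
      set k1 := a * k * a⁻¹ with hk1
      have hk1K : k1 ∈ K := hKn a (mem_fixA.2 hya) k hk
      have haP : a • P = P := Tame.smul_self ha
      have hainv : a⁻¹ = a := inv_eq_of_mul_eq_one_right ha2
      have h1 : a * (k * k1) * a⁻¹ = ⁅k1, k⁆ * (k * k1) := by
        rw [commutatorElement_def, hk1, hainv]
        have h2 : a * (k * (a * k * a)) * a = (a * k * a) * (k * (a * a)) := by group
        rw [h2, ha2, mul_one]
        group
      have h2 : a • ((k * k1) • P) = (k * k1) • P := by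
        have h3 : a • ((k * k1) • P) = (a * (k * k1) * a⁻¹) • (a • P) := by
          rw [← mul_smul, ← mul_smul]; congr 1; group
        rw [h3, haP, h1, mul_smul]
        exact htr _ (commutator_mem_commutator hk1K hk) _ (mul_mem (hKM hk) (hKM hk1K))
      have h3 := hinv a ha ha2 ha1 _ h2
      have h4 : k1 • P = k⁻¹ • P := by rw [eq_inv_smul_iff, ← mul_smul, h3]
      rw [← h4, hk1]
      have h5 : (a * k * a⁻¹) • (a • P) = a • (k • P) := by rw [← mul_smul, ← mul_smul]; congr 1; group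
      rw [← h5, haP]
    have h1 := hc a ha ha2 ha1 hya
    have h2 := hc b hb hb2 hb1 hyb
    by_contra hne
    apply hab
    have h3 : (b⁻¹ * a) • (k • P) = k • P := by rw [mul_smul, h1, ← h2, inv_smul_smul]
    have h4 := h.eq_one (Ne.symm hne) (mul_mem (inv_mem hb) ha) h3
    exact (inv_mul_eq_one.1 h4).symm
  have hK := key _ (cM α (fixA y)) rfl hsol (cM_le α hMi) (fun m hm k hk => cM_conj α hMi hm hk)
  -- `α` fixes `Q`
  apply hQ
  apply huniq
  have h1 := hK _ (mem_cM α hm)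
  rw [← hmP, aut_smul_smul, hP]
  have h2 : α m = m * (m⁻¹ * α m) := by group
  rw [h2, mul_smul, h1]

end Cfsg.Agent.H763.Ccp
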